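import Cfsg.Agent.Lib.Inv59.Kondo.Orbit
import Cfsg.Agent.Lib.DihedralPair.Transfer

/-!
# Groups with an involution centraliser as in an alternating group: fusion in the base group
-/

set_option autoImplicit false
set_option linter.style.haveILetI false
set_option linter.unusedSectionVars false

namespace Cfsg.Agent.Lib.Inv59.Kondo

open Subgroup

universe u

/-- An involution centraliser `C = (Z₂ ≀ S₂ₙ) ⋉ K` in a group without subgroups of index two. -/
structure Cfg (G : Type u) [Group G] (n : ℕ) where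
  hn : 0 < n
  ι : W n →* G
  inj : Function.Injective ι
  K : Subgroup G
  oddK : Odd (Nat.card K)
  cent : ∀ x : G, x * ι (W.vec 1) = ι (W.vec 1) * x → ∃ w, ∃ k ∈ K, x = ι w * k
  Kcomm : ∀ k ∈ K, k * ι (W.vec 1) = ι (W.vec 1) * k
  Kconj : ∀ w, ∀ k ∈ K, ι w * k * (ι w)⁻¹ ∈ K
  meet : ∀ w, ι w ∈ K → w = 1
  Kfree : ∀ w : W n, w.sgnV = 1 → ∀ k ∈ K, ι w * k = k * ι w → k = 1
  noTwo : ∀ N : Subgroup G, N.index ≠ 2
  oddIndex : Odd (centralizer ({ι (W.vec 1)} : Set G)).index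

namespace Cfg

variable {G : Type u} [Group G] {n : ℕ} (C : Cfg G n)

/-- A vector, inside the group. -/
def ιv (v : Vec n) : G := C.ι (W.vec v)

/-- The central involution. -/
def t : G := C.ιv 1

theorem ιv_add (u v : Vec n) : C.ιv (u + v) = C.ιv u * C.ιv v := by rw [ιv, W.vec_add, map_mul]; rfl
theorem ιv_mul_self (v : Vec n) : C.ιv v * C.ιv v = 1 := by rw [ιv, ← map_mul, W.vec_mul_self, map_one]
theorem ιv_zero : C.ιv 0 = 1 := by rw [ιv, W.vec_zero, map_one]

theorem ιv_inj {u v : Vec n} (h : C.ιv u = C.ιv v) : u = v := congrArg W.v (C.inj h)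

theorem conj_ιv (w : W n) (v : Vec n) : C.ι w * C.ιv v * (C.ι w)⁻¹ = C.ιv (act w.p v) := by
  rw [ιv, ιv, ← map_inv, ← map_mul, ← map_mul, W.conj_vec]

theorem comm_t (w : W n) : C.ι w * C.t = C.t * C.ι w := by
  rw [← mul_inv_eq_iff_eq_mul, t, C.conj_ιv, act_one_vec]

theorem orderOf_ιv {v : Vec n} (hv : v ≠ 0) : orderOf (C.ιv v) = 2 :=
  orderOf_eq_prime (by rw [pow_two, C.ιv_mul_self]) (fun h => hv (C.ιv_inj (h.trans C.ιv_zero.symm)))

/-- The decomposition of an element of the centraliser is unique. -/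
theorem decomp_unique {w w' : W n} {k k' : G} (hk : k ∈ C.K) (hk' : k' ∈ C.K)
    (h : C.ι w * k = C.ι w' * k') : w = w' ∧ k = k' := by
  have h1 : C.ι (w'⁻¹ * w) = k' * k⁻¹ := by
    calc C.ι (w'⁻¹ * w) = (C.ι w')⁻¹ * (C.ι w * k) * k⁻¹ := by rw [map_mul, map_inv]; group
      _ = k' * k⁻¹ := by rw [h]; group
  have h2 := C.meet _ (h1 ▸ C.K.mul_mem hk' (C.K.inv_mem hk))
  have h3 : w = w' := (inv_mul_eq_one.1 h2).symm
  subst h3
  exact ⟨rfl, mul_left_cancel h⟩

/-- The base group. -/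
def E : Subgroup G := (EK (∅ : Finset (Fin n))).map C.ι

/-- The pair group. -/
def J : Subgroup G := (pairGroup n).map C.ι

/-- A large elementary abelian subgroup. -/
def EG (L : Finset (Fin n)) : Subgroup G := (EK L).map C.ι

theorem mem_E {x : G} : x ∈ C.E ↔ ∃ v, C.ιv v = x := by
  constructor
  · rintro ⟨w, hw, rfl⟩
    exact ⟨w.v, by rw [ιv, ← W.eq_vec_of_p w (mem_EK_empty.1 hw)]⟩
  · rintro ⟨v, rfl⟩; exact ⟨_, vec_mem_EK_empty v, rfl⟩

theorem card_EG (L : Finset (Fin n)) : Nat.card (C.EG L) = 2 ^ (2 * n) := by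
  rw [EG, card_map_of_injective C.inj, card_EK]

theorem EG_mul_self {L : Finset (Fin n)} {x : G} (hx : x ∈ C.EG L) : x * x = 1 := by
  obtain ⟨w, hw, rfl⟩ := hx
  rw [← map_mul, EK_mul_self hw, map_one]

theorem EG_le_J (L : Finset (Fin n)) : C.EG L ≤ C.J := map_mono (EK_le_pairGroup L)

theorem EG_eq_iff {L M : Finset (Fin n)} (h : C.EG L = C.EG M) : L = M := by
  have h1 : EK L = EK M := map_injective C.inj h
  have h2 : Nat.card ↥(EK L ⊓ EK M) = 2 ^ (2 * n) := by rw [h1, inf_idem, card_EK]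
  rw [card_EK_inf] at h2
  have h3 := Nat.pow_right_injective le_rfl h2
  have h4 : (symmDiff L M).card ≤ n := (Finset.card_le_univ _).trans_eq (Fintype.card_fin n)
  exact symmDiff_eq_bot.1 (by rw [Finset.bot_eq_empty, ← Finset.card_eq_zero]; omega)

variable [Finite G]

/-- A Sylow subgroup of the wreath product containing the pair group. -/
noncomputable def T0 : Sylow 2 (W n) := (isPGroup_pairGroup (n := n)).exists_le_sylow.choose

theorem pairGroup_le_T0 : pairGroup n ≤ (T0 : Sylow 2 (W n)) :=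
  (isPGroup_pairGroup (n := n)).exists_le_sylow.choose_spec

theorem card_centralizer : Nat.card (centralizer ({C.t} : Set G)) = Nat.card (W n) * Nat.card C.K := by
  rw [← Nat.card_prod]
  refine (Nat.card_congr (Equiv.ofBijective (fun x : W n × C.K => (⟨C.ι x.1 * x.2, ?_⟩ :
    centralizer ({C.t} : Set G))) ⟨fun x y h => ?_, fun y => ?_⟩)).symm
  · rw [mem_centralizer_singleton_iff, mul_assoc, show (x.2 : G) * C.t = C.t * x.2 from C.Kcomm _ x.2.2,
      ← mul_assoc, C.comm_t, mul_assoc]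
  · obtain ⟨h1, h2⟩ := C.decomp_unique x.2.2 y.2.2 (congrArg Subtype.val h)
    exact Prod.ext h1 (Subtype.ext h2)
  · obtain ⟨w, k, hk, h⟩ := C.cent y (mem_centralizer_singleton_iff.1 y.2)
    exact ⟨(w, ⟨k, hk⟩), Subtype.ext h.symm⟩

theorem exists_sylow : ∃ S : Sylow 2 G, (S : Subgroup G) = (T0 : Sylow 2 (W n)).toSubgroup.map C.ι := by
  haveI := Fact.mk Nat.prime_two
  have hp : IsPGroup 2 ((T0 : Sylow 2 (W n)).toSubgroup.map C.ι) := (T0 : Sylow 2 (W n)).2.map _
  obtain ⟨P, hP⟩ := hp.exists_le_sylow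
  have hidx : ¬ 2 ∣ (centralizer ({C.t} : Set G)).index := C.oddIndex.not_two_dvd_nat
  refine ⟨P, (eq_of_le_of_card_ge hP ?_).symm⟩
  rw [card_map_of_injective C.inj, Sylow.card_eq_multiplicity, Sylow.card_eq_multiplicity,
    ← (centralizer ({C.t} : Set G)).index_mul_card, card_centralizer,
    Nat.factorization_mul (index_ne_zero_of_finite) (Nat.mul_ne_zero Nat.card_pos.ne' Nat.card_pos.ne'),
    Nat.factorization_mul Nat.card_pos.ne' Nat.card_pos.ne', Finsupp.add_apply, Finsupp.add_apply,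
    Nat.factorization_eq_zero_of_not_dvd hidx,
    Nat.factorization_eq_zero_of_not_dvd C.oddK.not_two_dvd_nat, zero_add, add_zero]

/-- The Sylow subgroup. -/
noncomputable def S : Sylow 2 G := C.exists_sylow.choose

theorem mem_S {x : G} : x ∈ (C.S : Subgroup G) ↔ ∃ w ∈ (T0 : Sylow 2 (W n)).toSubgroup, C.ι w = x := by
  rw [show (C.S : Subgroup G) = _ from C.exists_sylow.choose_spec]; rfl

theorem J_le_S : C.J ≤ C.S := by
  rintro _ ⟨w, hw, rfl⟩; exact C.mem_S.2 ⟨w, pairGroup_le_T0 hw, rfl⟩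

theorem exists_EG {A : Subgroup G} (hAS : A ≤ C.S) (hA : ∀ x ∈ A, x * x = 1)
    (hc : 2 ^ (2 * n) ≤ Nat.card A) : ∃ L, A = C.EG L := by
  have hA' : (A.comap C.ι).map C.ι = A := map_comap_eq_self (fun x hx => by
    obtain ⟨w, -, rfl⟩ := C.mem_S.1 (hAS hx); exact ⟨w, rfl⟩)
  obtain ⟨L, hL⟩ := exists_eq_EK (T0 : Sylow 2 (W n)).2 pairGroup_le_T0 (A := A.comap C.ι)
    (fun w hw => by
      obtain ⟨w', hw', h⟩ := C.mem_S.1 (hAS hw); exact C.inj h ▸ hw')
    (fun w hw => C.inj (by rw [map_mul, map_one]; exact hA _ hw))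
    (by rwa [← card_map_of_injective C.inj, hA'])
  exact ⟨L, by rw [← hA', hL]; rfl⟩

theorem J_eq_sup (x : G) (hx : x ∈ C.J) : ∃ a ∈ C.EG ∅, ∃ b ∈ C.EG Finset.univ, x = a * b := by
  obtain ⟨w, hw, rfl⟩ := hx
  refine ⟨_, ⟨W.vec w.v, vec_mem_EK_empty _, rfl⟩, _, ⟨W.prm w.p, ⟨fun a => ?_, fun _ _ => rfl⟩, rfl⟩, ?_⟩
  · rcases eq_or_mate (hw a) with h | h
    · exact Or.inl h
    · exact Or.inr ⟨Finset.mem_univ _, h⟩
  · rw [← map_mul]; congr 1; exact W.ext (by simp) (by simp)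

theorem J_normalizes {L : Finset (Fin n)} {j x : G} (hj : j ∈ C.J) (hx : x ∈ C.EG L) :
    j * x * j⁻¹ ∈ C.EG L := by
  obtain ⟨j, hj, rfl⟩ := hj
  obtain ⟨x, ⟨hx, hxv⟩, rfl⟩ := hx
  have hjp : ∀ a, j.p a = a ∨ j.p a = mate a := fun a => eq_or_mate (hj a)
  have hjm : ∀ a, j.p (mate a) = mate (j.p a) := by
    intro a
    rcases hjp a with h | h <;> rcases hjp (mate a) with h' | h'
    · rw [h, h']
    · rw [mate_mate] at h'; exact absurd (j.p.injective (h'.trans h.symm)) (mate_ne a)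
    · exact absurd (j.p.injective (h'.trans h.symm)) (mate_ne a)
    · rw [h, h', mate_mate]
  have hcomm : j.p * x.p = x.p * j.p := Equiv.ext fun a => by
    rw [Equiv.Perm.mul_apply, Equiv.Perm.mul_apply]
    rcases hx a with h | ⟨ha, h⟩ <;> rcases hx (j.p a) with h' | ⟨ha', h'⟩ <;> rw [h, h']
    · exfalso
      rcases hjp a with e | e
      · rw [e, h] at h'; exact mate_ne a h'.symm
      · rw [e, mate_mate] at h'
        exact mate_ne a (x.p.injective (h'.trans h.symm))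
    · exfalso
      rcases hjp a with e | e
      · rw [e, h] at h'; exact mate_ne a h'
      · rw [e] at h'
        exact mate_ne a (x.p.injective (h'.trans h.symm))
    · exact hjm a
  have hp : (j * x * j⁻¹).p = x.p := by
    rw [W.mul_p, W.mul_p, W.inv_p, hcomm, mul_inv_cancel_right]
  rw [← map_inv, ← map_mul, ← map_mul]
  refine ⟨j * x * j⁻¹, ⟨fun a => by rw [hp]; exact hx a, fun a ha => ?_⟩, rfl⟩
  have hv : (j * x * j⁻¹).v = j.v + act j.p x.v + act x.p j.v := by
    simp only [W.mul_v, W.mul_p, W.inv_v, ← act_mul]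
    rw [hcomm, mul_inv_cancel_right]
  have hjinv : ∀ b, j.p⁻¹ b = b ∨ j.p⁻¹ b = mate b := fun b => eq_or_mate ((pairGroup n).inv_mem hj b)
  have hc1 : ∀ b, b.1 ∈ L → x.v (j.p⁻¹ b) = x.v b := fun b hb => by
    rcases hjinv b with h | h <;> rw [h]
    exact hxv b hb
  have hxinv : x.p⁻¹ = x.p := inv_eq_of_mul_eq_one_right
    ((W.mul_self_eq_one x).1 (EK_mul_self ⟨hx, hxv⟩)).1
  simp only [hv, Pi.add_apply, act_apply, hxinv]
  rw [hc1 a ha, hc1 (mate a) (by simpa using ha), hxv a ha]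
  rcases hx a with h | ⟨-, h⟩ <;> rcases hx (mate a) with h' | ⟨-, h'⟩ <;> rw [h, h']
  · linear_combination z2_add_self (j.v (mate a)) - z2_add_self (j.v a)
  · rw [mate_mate] at h'; exact absurd (x.p.injective (h'.trans h.symm)) (mate_ne a)
  · exact absurd (x.p.injective (h'.trans h.symm)) (mate_ne a)
  · rw [mate_mate]; ring

/-- Conjugation by `g`. -/
def Maps (g : G) (A B : Subgroup G) : Prop := A.map (MulAut.conj g).toMonoidHom = B

omit [Finite G] in
theorem Maps.mem {g : G} {A B : Subgroup G} (h : Maps g A B) {x : G} (hx : x ∈ A) : g * x * g⁻¹ ∈ B :=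
  h ▸ ⟨x, hx, rfl⟩

omit [Finite G] in
theorem Maps.inv {g : G} {A B : Subgroup G} (h : Maps g A B) : Maps g⁻¹ B A := by
  rw [Maps, ← h, map_map]
  convert A.map_id
  ext x; simp [mul_assoc]

omit [Finite G] in
theorem Maps.trans {g h : G} {A B D : Subgroup G} (h1 : Maps g A B) (h2 : Maps h B D) : Maps (h * g) A D := by
  rw [Maps, ← h2, ← h1, map_map]
  congr 1
  ext x; simp [mul_assoc]

theorem maps_of_le {g : G} {A B : Subgroup G} (h : ∀ x ∈ A, g * x * g⁻¹ ∈ B)
    (hc : Nat.card B ≤ Nat.card A) : Maps g A B :=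
  eq_of_le_of_card_ge (by rintro _ ⟨x, hx, rfl⟩; exact h x hx)
    (by rwa [card_map_of_injective (MulAut.conj g).injective])

theorem maps_EG {φ : G} (hφ : Maps φ C.J C.J) (L : Finset (Fin n)) : ∃ M, Maps φ (C.EG L) (C.EG M) := by
  obtain ⟨M, hM⟩ := C.exists_EG (A := (C.EG L).map (MulAut.conj φ).toMonoidHom)
    (by rintro _ ⟨x, hx, rfl⟩; exact C.J_le_S (hφ.mem (C.EG_le_J L hx)))
    (by rintro _ ⟨x, hx, rfl⟩; rw [← map_mul, C.EG_mul_self hx, map_one])
    (by rw [card_map_of_injective (MulAut.conj φ).injective, card_EG])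
  exact ⟨M, hM⟩

theorem isometry {φ : G} {L L' M M' : Finset (Fin n)} (h : Maps φ (C.EG L) (C.EG M))
    (h' : Maps φ (C.EG L') (C.EG M')) : (symmDiff L L').card = (symmDiff M M').card := by
  have h1 : (C.EG L ⊓ C.EG L').map (MulAut.conj φ).toMonoidHom = C.EG M ⊓ C.EG M' := by
    rw [map_inf _ _ _ (MulAut.conj φ).injective, h, h']
  have h2 := congrArg (fun H : Subgroup G => Nat.card H) h1
  simp only [card_map_of_injective (f := (MulAut.conj φ).toMonoidHom) (MulAut.conj φ).injective] at h2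
  rw [EG, EG, EG, EG, ← map_inf _ _ _ C.inj, ← map_inf _ _ _ C.inj, card_map_of_injective C.inj,
    card_map_of_injective C.inj, card_EK_inf, card_EK_inf] at h2
  have h3 := Nat.pow_right_injective le_rfl h2
  have hb : ∀ D : Finset (Fin n), D.card ≤ n := fun D => (Finset.card_le_univ _).trans_eq (Fintype.card_fin n)
  have := hb (symmDiff L L'); have := hb (symmDiff M M'); omega

/-- The image of a set of pairs under a normalising element. -/
noncomputable def img {φ : G} (hφ : Maps φ C.J C.J) (L : Finset (Fin n)) : Finset (Fin n) :=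
  (C.maps_EG hφ L).choose

theorem img_spec {φ : G} (hφ : Maps φ C.J C.J) (L : Finset (Fin n)) :
    Maps φ (C.EG L) (C.EG (C.img hφ L)) := (C.maps_EG hφ L).choose_spec

theorem img_unique {φ : G} (hφ : Maps φ C.J C.J) {L M : Finset (Fin n)} (h : Maps φ (C.EG L) (C.EG M)) :
    C.img hφ L = M := C.EG_eq_iff ((C.img_spec hφ L).symm.trans h)

theorem pairPerm_maps (σ : Equiv.Perm (Fin n)) :
    Maps (C.ι (W.prm (σ.prodCongr (Equiv.refl (Fin 2))))) C.J C.J ∧
      ∀ L : Finset (Fin n), Maps (C.ι (W.prm (σ.prodCongr (Equiv.refl (Fin 2))))) (C.EG L) (C.EG (L.image σ)) := by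
  set q : Equiv.Perm (Blk n) := σ.prodCongr (Equiv.refl (Fin 2)) with hq
  have hq1 : ∀ a, (q a).1 = σ a.1 := fun _ => rfl
  have hqm : ∀ a, q (mate a) = mate (q a) := fun _ => rfl
  have hqi : ∀ a, (q⁻¹ a).1 = σ⁻¹ a.1 := fun _ => rfl
  have hqim : ∀ a, q⁻¹ (mate a) = mate (q⁻¹ a) := fun _ => rfl
  have hp : ∀ x : W n, (W.prm q * x * (W.prm q)⁻¹).p = q * x.p * q⁻¹ := fun x => rfl
  have hv : ∀ x : W n, (W.prm q * x * (W.prm q)⁻¹).v = act q x.v := fun x => by simp
  constructor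
  · refine maps_of_le ?_ le_rfl
    rintro _ ⟨x, hx, rfl⟩
    rw [← map_inv, ← map_mul, ← map_mul]
    refine ⟨_, fun a => ?_, rfl⟩
    rw [hp, Equiv.Perm.mul_apply, Equiv.Perm.mul_apply, hq1, hx, hqi, Equiv.Perm.inv_def, Equiv.apply_symm_apply]
  · intro L
    refine maps_of_le ?_ (by rw [card_EG, card_EG])
    rintro _ ⟨x, ⟨hx, hxv⟩, rfl⟩
    rw [← map_inv, ← map_mul, ← map_mul]
    refine ⟨_, ⟨fun a => ?_, fun a ha => ?_⟩, rfl⟩
    · rw [hp, Equiv.Perm.mul_apply, Equiv.Perm.mul_apply]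
      rcases hx (q⁻¹ a) with h | ⟨ha, h⟩ <;> rw [h]
      · exact Or.inl (by rw [Equiv.Perm.inv_def, Equiv.apply_symm_apply])
      · refine Or.inr ⟨Finset.mem_image.2 ⟨_, ha, ?_⟩, ?_⟩
        · rw [hqi, Equiv.Perm.inv_def, Equiv.apply_symm_apply]
        · rw [hqm, Equiv.Perm.inv_def, Equiv.apply_symm_apply]
    · rw [hv, act_apply, act_apply, hqim]
      refine hxv _ ?_
      obtain ⟨k, hk, hka⟩ := Finset.mem_image.1 ha
      rwa [hqi, ← hka, Equiv.Perm.inv_def, Equiv.symm_apply_apply]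

theorem img_empty {φ : G} (hφ : Maps φ C.J C.J) : C.img hφ ∅ = ∅ := by
  classical
  by_contra hne
  set a := C.img hφ ∅ with ha
  let f : Finset (Fin n) → Finset (Fin n) := fun L => symmDiff a (C.img hφ L)
  have hf : ∀ L M, (symmDiff (f L) (f M)).card = (symmDiff L M).card := fun L M => by
    rw [C.isometry (C.img_spec hφ L) (C.img_spec hφ M)]
    congr 1
    ext k; simp only [f, Finset.mem_symmDiff]; tauto
  have hf0 : f ∅ = ∅ := symmDiff_self a
  have hd0 : ∀ L : Finset (Fin n), symmDiff L ∅ = L := fun L => by ext k; simp [Finset.mem_symmDiff]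
  have hfc : ∀ L, (f L).card = L.card := fun L => by
    have := hf L ∅
    rwa [hf0, hd0, hd0] at this
  have hσ : ∀ k, ∃ i, f {k} = {i} := fun k => Finset.card_eq_one.1 (by rw [hfc, Finset.card_singleton])
  choose σ hσ using hσ
  have hinj : Function.Injective σ := by
    intro k l h
    have := hf {k} {l}
    rw [hσ, hσ, h, symmDiff_self] at this
    by_contra hkl
    have h2 : k ∈ symmDiff ({k} : Finset (Fin n)) {l} := by simp [Finset.mem_symmDiff, hkl]
    simp only [Finset.bot_eq_empty, Finset.card_empty] at this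
    exact absurd this.symm (Finset.card_ne_zero_of_mem h2)
  have hfL : ∀ L, f L = L.image σ := by
    intro L
    refine (Finset.eq_of_subset_of_card_le ?_ (by rw [hfc, Finset.card_image_of_injective _ hinj])).symm
    intro i hi
    obtain ⟨k, hk, rfl⟩ := Finset.mem_image.1 hi
    by_contra hnot
    have := hf L {k}
    rw [hσ] at this
    have e1 : (symmDiff (f L) {σ k}).card = L.card + 1 := by
      rw [show symmDiff (f L) {σ k} = insert (σ k) (f L) by
        ext i; simp only [Finset.mem_symmDiff, Finset.mem_singleton, Finset.mem_insert]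
        constructor
        · tauto
        · rintro (rfl | h)
          · exact Or.inr ⟨rfl, hnot⟩
          · exact Or.inl ⟨h, fun hi => hnot (hi ▸ h)⟩,
        Finset.card_insert_of_notMem hnot, hfc]
    have e2 : (symmDiff L {k}).card + 1 = L.card := by
      rw [show symmDiff L {k} = L.erase k by
        ext i; simp only [Finset.mem_symmDiff, Finset.mem_singleton, Finset.mem_erase]
        constructor
        · rintro (h | h)
          · exact ⟨h.2, h.1⟩
          · exact absurd (h.1 ▸ hk) h.2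
        · tauto]
      exact Finset.card_erase_add_one hk
    omega
  let σ' : Equiv.Perm (Fin n) := Equiv.ofBijective σ (Finite.injective_iff_bijective.1 hinj)
  obtain ⟨hqJ, hq⟩ := C.pairPerm_maps σ'
  set q := C.ι (W.prm (σ'.prodCongr (Equiv.refl (Fin 2))))
  set τ := φ * q⁻¹ with hτ
  have hτJ : Maps τ C.J C.J := hqJ.inv.trans hφ
  have hτL : ∀ L, Maps τ (C.EG L) (C.EG (symmDiff a L)) := by
    intro L
    obtain ⟨M, rfl⟩ : ∃ M : Finset (Fin n), L = M.image σ' :=
      ⟨L.image σ'.symm, by rw [Finset.image_image, Equiv.self_comp_symm, Finset.image_id]⟩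
    have : symmDiff a (M.image σ') = C.img hφ M := by
      rw [show M.image σ' = f M from (hfL M).symm]
      simp only [f]
      ext k; simp only [Finset.mem_symmDiff]; tauto
    rw [this]
    exact (hq M).inv.trans (C.img_spec hφ M)
  -- the orbit of the base group
  let N : Subgroup G :=
    { carrier := {g | Maps g C.J C.J}
      one_mem' := maps_of_le (fun x hx => by simpa using hx) le_rfl
      mul_mem' := fun h h' => h'.trans h
      inv_mem' := fun h => h.inv }
  letI : MulAction N (Finset (Fin n)) :=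
    { smul := fun g L => C.img g.2 L
      one_smul := fun L => C.img_unique (1 : N).2 (maps_of_le (fun x hx => by simpa using hx) le_rfl)
      mul_smul := fun g h L => C.img_unique (g * h).2 ((C.img_spec h.2 L).trans (C.img_spec g.2 _)) }
  have hsmul : ∀ (g : N) (L M : Finset (Fin n)), Maps (g : G) (C.EG L) (C.EG M) → g • L = M :=
    fun g L M h => C.img_unique g.2 h
  have hτmem : τ ∈ N := hτJ
  let τN : N := ⟨τ, hτmem⟩
  have hTJ : ∀ g ∈ (C.S : Subgroup G), Maps g C.J C.J ∧ Maps g (C.EG ∅) (C.EG ∅) := by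
    intro g hg
    obtain ⟨w, hw, rfl⟩ := C.mem_S.1 hg
    refine ⟨maps_of_le ?_ le_rfl, maps_of_le ?_ le_rfl⟩
    · rintro _ ⟨x, hx, rfl⟩
      rw [← map_inv, ← map_mul, ← map_mul]
      refine ⟨_, fun b => ?_, rfl⟩
      have hps : ∀ k, pswap k ∈ (T0 : Sylow 2 (W n)).toSubgroup.map W.perm :=
        fun k => ⟨_, pairGroup_le_T0 (pswap_mem k), rfl⟩
      rw [W.mul_p, W.mul_p, W.inv_p, Equiv.Perm.mul_apply, Equiv.Perm.mul_apply]
      rcases eq_or_mate (hx (w.p⁻¹ b)) with h | h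
      · rw [h, Equiv.Perm.inv_def, Equiv.apply_symm_apply]
      · rw [h]
        have hw' : w.p ∈ (T0 : Sylow 2 (W n)).toSubgroup.map W.perm := ⟨w, hw, rfl⟩
        have h1 := Subgroup.mul_mem _ (Subgroup.mul_mem _ hw' (hps (w.p⁻¹ b).1)) (Subgroup.inv_mem _ hw')
        rw [← swap_mate (w.p⁻¹ b), ← Equiv.swap_apply_apply] at h1
        have h2 := transposition_eq_pswap ((T0 : Sylow 2 (W n)).2.map _) hps
          (fun hh => mate_ne (w.p⁻¹ b) (w.p.injective hh).symm) h1
        rw [h2, Equiv.Perm.inv_def, Equiv.apply_symm_apply]; rfl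
    · intro x hx
      obtain ⟨v, rfl⟩ := C.mem_E.1 hx
      rw [C.conj_ιv]; exact C.mem_E.2 ⟨_, rfl⟩
  have hSN : (C.S : Subgroup G) ≤ N := fun g hg => (hTJ g hg).1
  have hstab : (C.S : Subgroup G).subgroupOf N ≤ MulAction.stabilizer N (∅ : Finset (Fin n)) :=
    fun g hg => hsmul g _ _ (hTJ g hg).2
  have hodd : Odd (Nat.card (MulAction.orbit N (∅ : Finset (Fin n)))) := by
    rw [Nat.card_congr (MulAction.orbitEquivQuotientStabilizer N _)]
    refine (Nat.not_even_iff_odd.1 fun h => (C.S).not_dvd_index (h.two_dvd.trans ?_))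
    exact (index_dvd_of_le hstab).trans (relIndex_dvd_index_of_le hSN)
  haveI : Fintype (MulAction.orbit N (∅ : Finset (Fin n))) := Fintype.ofFinite _
  have heven : ∑ _x : MulAction.orbit N (∅ : Finset (Fin n)), (1 : ZMod 2) = 0 :=
    Finset.sum_involution (fun x _ => τN • x) (fun _ _ => z2_add_self 1)
      (fun x _ _ h => hne (by
        have h1 : τN • (x : Finset (Fin n)) = x := congrArg Subtype.val h
        rw [hsmul τN _ _ (hτL _)] at h1
        exact symmDiff_eq_right.1 h1))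
      (fun _ _ => Finset.mem_univ _)
      (fun x _ => Subtype.ext (by
        show τN • (τN • (x : Finset (Fin n))) = x
        rw [hsmul τN _ _ (hτL _), hsmul τN _ _ (hτL _), ← symmDiff_assoc, symmDiff_self, bot_symmDiff]))
  rw [Finset.sum_const, Finset.card_univ, nsmul_one, ← Nat.card_eq_fintype_card,
    ZMod.natCast_eq_zero_iff_even] at heven
  exact Nat.not_odd_iff_even.2 heven hodd

theorem eq_J_of_conj_le {P : Sylow 2 G} (hJ : C.J ≤ P) {g : G}
    (hg : ∀ x ∈ C.J, g * x * g⁻¹ ∈ (P : Subgroup G)) : Maps g C.J C.J := by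
  haveI := Fact.mk Nat.prime_two
  obtain ⟨c, hc⟩ := MulAction.exists_smul_eq G C.S P
  have hmem : ∀ x : G, x ∈ (P : Subgroup G) → c⁻¹ * x * c ∈ (C.S : Subgroup G) := by
    intro x hx
    rw [← hc, Sylow.coe_subgroup_smul, mem_pointwise_smul_iff_inv_smul_mem] at hx
    simpa [MulAut.smul_def, ← map_inv] using hx
  have key : ∀ h : G, (∀ x ∈ C.J, h * x * h⁻¹ ∈ (P : Subgroup G)) → Maps (c⁻¹ * h) C.J C.J := by
    intro h hh
    have he : ∀ L, ∀ y ∈ C.EG L, c⁻¹ * h * y * (c⁻¹ * h)⁻¹ ∈ C.J := by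
      intro L y hy
      obtain ⟨M, hM⟩ := C.exists_EG (A := (C.EG L).map (MulAut.conj (c⁻¹ * h)).toMonoidHom)
        (by
          rintro _ ⟨z, hz, rfl⟩
          have := hmem _ (hh z (C.EG_le_J L hz))
          simpa [mul_assoc] using this)
        (by rintro _ ⟨z, hz, rfl⟩; rw [← map_mul, C.EG_mul_self hz, map_one])
        (by rw [card_map_of_injective (MulAut.conj (c⁻¹ * h)).injective, card_EG])
      exact C.EG_le_J M (hM ▸ ⟨y, hy, rfl⟩)
    refine maps_of_le (fun x hx => ?_) le_rfl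
    obtain ⟨a, ha, b, hb, rfl⟩ := C.J_eq_sup x hx
    rw [show c⁻¹ * h * (a * b) * (c⁻¹ * h)⁻¹ =
      (c⁻¹ * h * a * (c⁻¹ * h)⁻¹) * (c⁻¹ * h * b * (c⁻¹ * h)⁻¹) by group]
    exact C.J.mul_mem (he _ a ha) (he _ b hb)
  have h1 := key 1 fun x hx => by simpa using hJ hx
  have h2 := key g hg
  rw [mul_one] at h1
  have := h2.trans h1.inv
  rwa [inv_inv, mul_inv_cancel_left] at this

/-- Conjugation preserves the type of the large elementary abelian subgroups. -/
theorem conj_EG {g : G} {L : Finset (Fin n)} (h : ∀ x ∈ C.EG L, g * x * g⁻¹ ∈ (C.S : Subgroup G)) :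
    ∃ M, M.card = L.card ∧ Maps g (C.EG L) (C.EG M) := by
  haveI := Fact.mk Nat.prime_two
  obtain ⟨M, hM⟩ := C.exists_EG (A := (C.EG L).map (MulAut.conj g).toMonoidHom)
    (by rintro _ ⟨x, hx, rfl⟩; exact h x hx)
    (by rintro _ ⟨x, hx, rfl⟩; rw [← map_mul, C.EG_mul_self hx, map_one])
    (by rw [card_map_of_injective (MulAut.conj g).injective, card_EG])
  refine ⟨M, ?_, hM⟩
  have hM : Maps g (C.EG L) (C.EG M) := hM
  let N : Subgroup G :=
    { carrier := {y | Maps y (C.EG M) (C.EG M)}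
      one_mem' := maps_of_le (fun x hx => by simpa using hx) le_rfl
      mul_mem' := fun h h' => h'.trans h
      inv_mem' := fun h => h.inv }
  have hJ1 : C.J ≤ N := fun j hj => maps_of_le (fun x hx => C.J_normalizes hj hx) le_rfl
  have hJL : ∀ j ∈ C.J, Maps j (C.EG L) (C.EG L) := fun j hj =>
    maps_of_le (fun x hx => C.J_normalizes hj hx) le_rfl
  have hJ2 : C.J.map (MulAut.conj g).toMonoidHom ≤ N := by
    rintro _ ⟨j, hj, rfl⟩
    show Maps (g * j * g⁻¹) _ _
    rw [mul_assoc]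
    exact (hM.inv.trans (hJL j hj)).trans hM
  have hp1 : IsPGroup 2 (C.J.subgroupOf N) :=
    ((C.S).2.to_le C.J_le_S).of_equiv (subgroupOfEquivOfLe hJ1).symm
  have hp2 : IsPGroup 2 ((C.J.map (MulAut.conj g).toMonoidHom).subgroupOf N) :=
    (((C.S).2.to_le C.J_le_S).map _).of_equiv (subgroupOfEquivOfLe hJ2).symm
  obtain ⟨P1, hP1⟩ := hp1.exists_le_sylow
  obtain ⟨P2, hP2⟩ := hp2.exists_le_sylow
  obtain ⟨h', hh⟩ := MulAction.exists_smul_eq N P2 P1
  obtain ⟨P, hP⟩ := (P1.2.map N.subtype).exists_le_sylow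
  have hφ : Maps ((h' : G) * g) C.J C.J := by
    refine C.eq_J_of_conj_le (P := P) (fun x hx => hP ⟨⟨x, hJ1 hx⟩, hP1 hx, rfl⟩) fun x hx => ?_
    have hy : g * x * g⁻¹ ∈ N := hJ2 ⟨x, hx, rfl⟩
    have hy2 : (⟨_, hy⟩ : N) ∈ P2 := hP2 ⟨x, hx, rfl⟩
    have hy1 : h' * ⟨_, hy⟩ * h'⁻¹ ∈ (P1 : Subgroup N) := by
      rw [← hh, Sylow.coe_subgroup_smul]
      exact ⟨_, hy2, rfl⟩
    have := hP ⟨_, hy1, rfl⟩
    simpa [mul_assoc] using this
  have h1 : Maps ((h' : G) * g) (C.EG L) (C.EG M) := hM.trans h'.2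
  have h0 := C.img_spec hφ ∅
  rw [C.img_empty hφ] at h0
  have := C.isometry h1 h0
  rwa [symmDiff_bot' L, symmDiff_bot' M, eq_comm] at this
where
  symmDiff_bot' (L : Finset (Fin n)) : symmDiff L ∅ = L := by ext k; simp [Finset.mem_symmDiff]

theorem conj_E_le {g : G} (h : ∀ x ∈ C.E, g * x * g⁻¹ ∈ (C.S : Subgroup G)) : Maps g C.E C.E := by
  obtain ⟨M, hc, hM⟩ := C.conj_EG (L := ∅) h
  rw [Finset.card_empty, Finset.card_eq_zero] at hc
  rwa [hc] at hM

/-- Fusion inside the base group. -/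
theorem fusion_E {u v : Vec n} {g : G} (h : g * C.ιv u * g⁻¹ = C.ιv v) :
    ∃ g' : G, Maps g' C.E C.E ∧ g' * C.ιv u * g'⁻¹ = C.ιv v := by
  haveI := Fact.mk Nat.prime_two
  have hcomm : ∀ a b : Vec n, C.ιv a * C.ιv b = C.ιv b * C.ιv a := fun a b => by
    rw [← C.ιv_add, ← C.ιv_add, add_comm]
  set D := centralizer ({C.ιv v} : Set G) with hD
  have hE1 : C.E ≤ D := fun x hx => by
    obtain ⟨w, rfl⟩ := C.mem_E.1 hx; exact mem_centralizer_singleton_iff.2 (hcomm _ _)
  have hE2 : C.E.map (MulAut.conj g).toMonoidHom ≤ D := by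
    rintro _ ⟨x, hx, rfl⟩
    obtain ⟨w, rfl⟩ := C.mem_E.1 hx
    rw [mem_centralizer_singleton_iff, ← h]
    simp only [MulEquiv.coe_toMonoidHom, MulAut.conj_apply]
    rw [show g * C.ιv w * g⁻¹ * (g * C.ιv u * g⁻¹) = g * (C.ιv w * C.ιv u) * g⁻¹ by group, hcomm]
    group
  have hpE : IsPGroup 2 C.E := fun x => ⟨1, Subtype.ext (by
    rw [pow_one, coe_pow, pow_two]; exact C.EG_mul_self x.2)⟩
  obtain ⟨P1, hP1⟩ := (hpE.of_equiv (subgroupOfEquivOfLe hE1).symm : IsPGroup 2 (C.E.subgroupOf D)).exists_le_sylow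
  obtain ⟨P2, hP2⟩ := ((hpE.map _).of_equiv (subgroupOfEquivOfLe hE2).symm :
    IsPGroup 2 ((C.E.map (MulAut.conj g).toMonoidHom).subgroupOf D)).exists_le_sylow
  obtain ⟨h', hh⟩ := MulAction.exists_smul_eq D P2 P1
  obtain ⟨P, hP⟩ := (P1.2.map D.subtype).exists_le_sylow
  obtain ⟨c, hc⟩ := MulAction.exists_smul_eq G C.S P
  have hmem : ∀ x : G, x ∈ (P : Subgroup G) → c⁻¹ * x * c ∈ (C.S : Subgroup G) := by
    intro x hx
    rw [← hc, Sylow.coe_subgroup_smul, mem_pointwise_smul_iff_inv_smul_mem] at hx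
    simpa [MulAut.smul_def, ← map_inv] using hx
  have h1 : Maps c⁻¹ C.E C.E := C.conj_E_le fun x hx => by
    simpa using hmem x (hP ⟨⟨x, hE1 hx⟩, hP1 hx, rfl⟩)
  have h2 : Maps (c⁻¹ * ((h' : G) * g)) C.E C.E := C.conj_E_le fun x hx => by
    have hy : g * x * g⁻¹ ∈ D := hE2 ⟨x, hx, rfl⟩
    have hy2 : (⟨_, hy⟩ : D) ∈ P2 := hP2 ⟨x, hx, rfl⟩
    have hy1 : h' * ⟨_, hy⟩ * h'⁻¹ ∈ (P1 : Subgroup D) := by
      rw [← hh, Sylow.coe_subgroup_smul]
      exact ⟨_, hy2, rfl⟩
    have := hmem _ (hP ⟨_, hy1, rfl⟩)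
    simpa [mul_assoc] using this
  refine ⟨(h' : G) * g, by simpa [mul_assoc] using h2.trans h1.inv, ?_⟩
  have h3 : (h' : G) * C.ιv v = C.ιv v * (h' : G) := mem_centralizer_singleton_iff.1 h'.2
  rw [show (h' : G) * g * C.ιv u * ((h' : G) * g)⁻¹ = (h' : G) * (g * C.ιv u * g⁻¹) * (h' : G)⁻¹ by group, h,
    h3, mul_inv_cancel_right]

/-- The automorphisms of the base group induced by the group. -/
def autX : Set (Vec n → Vec n) := {f | ∃ g : G, ∀ v, g * C.ιv v * g⁻¹ = C.ιv (f v)}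

omit [Finite G] in
theorem autX_conj {f : Vec n → Vec n} (hf : f ∈ C.autX) (v : Vec n) : IsConj (C.ιv v) (C.ιv (f v)) := by
  obtain ⟨g, hg⟩ := hf; exact isConj_iff.2 ⟨g, hg v⟩

theorem exists_aut {g : G} (hg : Maps g C.E C.E) : ∃ f ∈ C.autX, ∀ v, g * C.ιv v * g⁻¹ = C.ιv (f v) := by
  have : ∀ v, ∃ w, C.ιv w = g * C.ιv v * g⁻¹ := fun v => C.mem_E.1 (hg.mem (C.mem_E.2 ⟨v, rfl⟩))
  choose f hf using this
  exact ⟨f, ⟨g, fun v => (hf v).symm⟩, fun v => (hf v).symm⟩

/-- A subgroup of index two in the Sylow subgroup. -/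
theorem exists_maximal (χ : W n → ZMod 2) (hχ : ∀ x y, χ (x * y) = χ x + χ y)
    {a : W n} (ha : a ∈ (T0 : Sylow 2 (W n)).toSubgroup) (hχa : χ a = 1) :
    ∃ M : Subgroup G, M ≤ C.S ∧ M.relIndex C.S = 2 ∧
      ∀ x ∈ M, ∃ w ∈ (T0 : Sylow 2 (W n)).toSubgroup, χ w = 0 ∧ C.ι w = x := by
  have h1 : χ 1 = 0 := by
    have h := hχ 1 1
    rw [mul_one] at h
    exact add_left_cancel ((add_zero _).trans h).symm
  let D : Subgroup (W n) :=
    { carrier := {w | w ∈ (T0 : Sylow 2 (W n)).toSubgroup ∧ χ w = 0}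
      one_mem' := ⟨one_mem _, h1⟩
      mul_mem' := fun hx hy => ⟨mul_mem hx.1 hy.1, by rw [hχ, hx.2, hy.2, add_zero]⟩
      inv_mem' := fun {x} hx => ⟨inv_mem hx.1, by
        have := hχ x⁻¹ x
        rw [inv_mul_cancel, h1, hx.2, add_zero] at this
        exact this.symm⟩ }
  refine ⟨D.map C.ι, ?_, ?_, fun x ⟨w, hw, h⟩ => ⟨w, hw.1, hw.2, h⟩⟩
  · rintro _ ⟨w, hw, rfl⟩; exact C.mem_S.2 ⟨w, hw.1, rfl⟩
  rw [relIndex, index_eq_two_iff]
  refine ⟨⟨C.ι a, C.mem_S.2 ⟨a, ha, rfl⟩⟩, fun b => ?_⟩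
  obtain ⟨b, hb⟩ := b
  obtain ⟨w, hw, rfl⟩ := C.mem_S.1 hb
  have hiff : ∀ z, z ∈ (T0 : Sylow 2 (W n)).toSubgroup → (C.ι z ∈ D.map C.ι ↔ χ z = 0) := fun z hz =>
    ⟨fun ⟨z', hz', h⟩ => C.inj h ▸ hz'.2, fun h => ⟨z, ⟨hz, h⟩, rfl⟩⟩
  simp only [mem_subgroupOf, coe_mul, ← map_mul]
  rw [hiff _ (mul_mem hw ha), hiff _ hw, hχ, hχa]
  rcases z2_cases (χ w) with h | h <;> simp [h, Xor', z2_add_self]

theorem lin : Lin C.autX where
  npos := C.hn
  add := by
    rintro f ⟨g, hg⟩ u v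
    refine C.ιv_inj ?_
    rw [← hg, C.ιv_add, C.ιv_add (f u), ← hg, ← hg]
    group
  comp := by
    rintro f ⟨g, hg⟩ f' ⟨g', hg'⟩
    refine ⟨g * g', fun v => ?_⟩
    rw [← hg, ← hg']; group
  inv := by
    rintro f ⟨g, hg⟩
    have hinj : Function.Injective f := fun u v h => C.ιv_inj (by
      have h' := congrArg C.ιv h
      rw [← hg, ← hg] at h'
      simpa using h')
    let e := Equiv.ofBijective f (Finite.injective_iff_bijective.1 hinj)
    refine ⟨e.symm, ⟨g⁻¹, fun v => ?_⟩, fun v => e.symm_apply_apply v, fun v => e.apply_symm_apply v⟩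
    have := hg (e.symm v)
    rw [show f (e.symm v) = v from e.apply_symm_apply v] at this
    rw [← this]; group
  perm p := ⟨C.ι (W.prm p), fun v => C.conj_ιv _ v⟩
  stab := by
    rintro f ⟨g, hg⟩ h1
    obtain ⟨w, k, hk, rfl⟩ := C.cent g (by
      have := hg 1
      rw [h1] at this
      exact mul_inv_eq_iff_eq_mul.1 this)
    refine ⟨w.p, funext fun v => ?_⟩
    have h := hg v
    -- compare in the complement
    set k' := (C.ιv v)⁻¹ * k * C.ιv v with hk'
    have hk'K : k' ∈ C.K := by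
      have := C.Kconj (W.vec v)⁻¹ k hk
      rwa [map_inv, inv_inv] at this
    have hd : C.ι (w * W.vec v * w⁻¹) * (C.ι w * (k' * k⁻¹) * (C.ι w)⁻¹) = C.ι (W.vec (f v)) * 1 := by
      rw [mul_one, map_mul, map_mul, map_inv]
      show _ = C.ιv (f v)
      rw [← h, hk', ιv]; group
    have := (C.decomp_unique (C.Kconj w _ (C.K.mul_mem hk'K (C.K.inv_mem hk))) C.K.one_mem hd).1
    rw [W.conj_vec] at this
    exact (congrArg W.v this).symm
  moves := by
    let a0 : Blk n := (⟨0, C.hn⟩, 0)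
    obtain ⟨M, hMS, hM, hMχ⟩ := C.exists_maximal W.sgnV W.sgnV_mul (a := W.vec (e a0))
      (pairGroup_le_T0 (EK_le_pairGroup ∅ (vec_mem_EK_empty _))) (par_e a0)
    obtain ⟨g, hgM, hg⟩ := DihedralPair.exists_conj_extremal C.S M hMS hM C.noTwo
      (C.orderOf_ιv (v := e a0) (fun h => by
        have := par_e a0
        rw [h] at this
        simp [par] at this)) (P := C.E)
      (fun x => ⟨1, Subtype.ext (by rw [pow_one, coe_pow, pow_two]; exact C.EG_mul_self x.2)⟩)
      (fun x hx => by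
        obtain ⟨w, rfl⟩ := C.mem_E.1 hx
        show C.ιv w * C.ιv (e a0) = C.ιv (e a0) * C.ιv w
        rw [← C.ιv_add, ← C.ιv_add, add_comm])
    obtain ⟨f, hf, hfv⟩ := C.exists_aut (C.conj_E_le hg)
    refine ⟨f, hf, e a0, ?_⟩
    obtain ⟨w, -, hw0, hw⟩ := hMχ _ hgM
    rw [hfv] at hw
    rw [par_e, ← show W.sgnV (W.vec (f (e a0))) = par (f (e a0)) from rfl, ← C.inj hw, hw0]
    exact zero_ne_one

/-- The change of labels. -/
def twistW : W n →* W n where
  toFun x := ⟨Kondo.twist x.v, x.p⟩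
  map_one' := W.ext (by simp [Kondo.twist, par]) rfl
  map_mul' x y := W.ext (by simp only [W.mul_v, twist_add, twist_act]) rfl

omit [Group G] [Finite G] in
theorem twistW_twistW (x : W n) : twistW (twistW x) = x := W.ext (twist_twist x.v) rfl

omit [Group G] [Finite G] in
theorem twistW_vec_one : twistW (W.vec (1 : Vec n)) = W.vec 1 := W.ext twist_one rfl

/-- The configuration in the new labels. -/
def retwist : Cfg G n where
  hn := C.hn
  ι := C.ι.comp twistW
  inj x y h := by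
    have := congrArg twistW (C.inj h)
    rwa [twistW_twistW, twistW_twistW] at this
  K := C.K
  oddK := C.oddK
  cent x hx := by
    simp only [MonoidHom.comp_apply, twistW_vec_one] at hx
    obtain ⟨w, k, hk, rfl⟩ := C.cent x hx
    exact ⟨twistW w, k, hk, by rw [MonoidHom.comp_apply, twistW_twistW]⟩
  Kcomm k hk := by simp only [MonoidHom.comp_apply, twistW_vec_one]; exact C.Kcomm k hk
  Kconj w k hk := C.Kconj _ k hk
  meet w h := by rw [← twistW_twistW w, C.meet _ h, map_one]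
  Kfree w hw := C.Kfree _ (by rw [W.sgnV]; exact (par_twist w.v).trans hw)
  noTwo := C.noTwo
  oddIndex := by simp only [MonoidHom.comp_apply, twistW_vec_one]; exact C.oddIndex

/-- The orbit of the central involution consists of itself and the vectors with one zero. -/
def Good : Prop :=
  (∀ f ∈ C.autX, f 1 = 1 ∨ ∃ a, f 1 = 1 + e a) ∧ ∀ a, ∃ f ∈ C.autX, f 1 = 1 + e a

theorem exists_good : ∃ D : Cfg G n, D.Good ∧ D.t = C.t := by
  rcases orbit_or_twist C.lin with h | h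
  · exact ⟨C, h, rfl⟩
  · refine ⟨C.retwist, ?_, ?_⟩
    · have hX : C.retwist.autX = twistSet C.autX := by
        ext f
        constructor
        · rintro ⟨g, hg⟩
          refine ⟨g, fun v => ?_⟩
          have := hg (Kondo.twist v)
          show g * C.ιv v * g⁻¹ = C.ιv (Kondo.twist (f (Kondo.twist v)))
          have e : ∀ u, C.retwist.ιv u = C.ιv (Kondo.twist u) := fun u => rfl
          rwa [e, e, twist_twist] at this
        · rintro ⟨g, hg⟩
          refine ⟨g, fun v => ?_⟩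
          have := hg (Kondo.twist v)
          simp only [twist_twist] at this
          exact this
      show _ ∧ _
      rw [hX]; exact h
    · show C.ι (twistW (W.vec 1)) = C.ι (W.vec 1)
      rw [twistW_vec_one]

end Cfg

end Cfsg.Agent.Lib.Inv59.Kondo
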