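import Cfsg.Agent.Lib.Inv59.Kondo.Swap

/-!
# The number of classes of involutions
-/

set_option autoImplicit false
set_option linter.style.haveILetI false
set_option linter.unusedSectionVars false

namespace Cfsg.Agent.Lib.Inv59.Kondo

open Subgroup

universe u

variable {n : ℕ}

/-- The orbit of the all-one vector, labelled by one extra point. -/
def orbPt : Option (Blk n) → Vec n
  | none => 1
  | some a => 1 + e a

/-- The sum over a set of labels. -/
def setSum (T : Finset (Option (Blk n))) : Vec n := ∑ x ∈ T, orbPt x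

/-- The vector of a set of blocks. -/
def ind (T : Finset (Blk n)) : Vec n := ∑ a ∈ T, e a

theorem ind_apply (T : Finset (Blk n)) (b : Blk n) : ind T b = if b ∈ T then 1 else 0 := by
  simp [ind, e_apply, Finset.sum_apply]

theorem supp_ind (T : Finset (Blk n)) : supp (ind T) = T := by
  ext b; rw [mem_supp, ind_apply]; split_ifs with h <;> simp [h]

theorem ind_supp (v : Vec n) : ind (supp v) = v := by
  funext b
  rw [ind_apply]
  by_cases h : b ∈ supp v
  · rw [if_pos h, mem_supp.1 h]
  · rw [if_neg h, not_mem_supp h]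

theorem setSum_eq (T : Finset (Option (Blk n))) :
    setSum T = (T.card : ZMod 2) • 1 + ind T.eraseNone := by
  induction T using Finset.induction_on with
  | empty => simp [setSum, ind]
  | insert x T hx ih =>
    rw [setSum, Finset.sum_insert hx, ← setSum, ih, Finset.card_insert_of_notMem hx, Nat.cast_succ,
      add_smul, one_smul]
    cases x with
    | none =>
      rw [show (insert none T).eraseNone = T.eraseNone by ext; simp]
      simp only [orbPt]; abel
    | some a =>
      rw [show (insert (some a) T).eraseNone = insert a T.eraseNone by ext; simp]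
      have : a ∉ T.eraseNone := fun h => hx (Finset.mem_eraseNone.1 h)
      rw [ind, ind, Finset.sum_insert this]
      simp only [orbPt]; abel

/-- The weight. -/
def wt (v : Vec n) : ℕ := ((supp v).card + 1) / 2

theorem wt_setSum (T : Finset (Option (Blk n))) (hT : Even T.card) : wt (setSum T) = T.card / 2 := by
  rw [setSum_eq, (ZMod.natCast_eq_zero_iff_even.2 hT), zero_smul, zero_add, wt, supp_ind]
  obtain ⟨j, hj⟩ := hT
  by_cases h : none ∈ T
  · have := Finset.card_erase_add_one h
    rw [← Finset.map_some_eraseNone, Finset.card_map] at this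
    omega
  · have h' := Finset.map_some_eraseNone T
    rw [Finset.erase_eq_of_notMem h] at h'
    have := congrArg Finset.card h'
    rw [Finset.card_map] at this
    omega

theorem exists_setSum (v : Vec n) : ∃ T : Finset (Option (Blk n)), Even T.card ∧ setSum T = v ∧ T.card = 2 * wt v := by
  rcases Nat.even_or_odd (supp v).card with h | h
  · refine ⟨(supp v).map Function.Embedding.some, by rwa [Finset.card_map], ?_, ?_⟩
    · rw [setSum_eq, Finset.card_map, ZMod.natCast_eq_zero_iff_even.2 h, zero_smul, zero_add,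
        Finset.eraseNone_map_some, ind_supp]
    · rw [Finset.card_map, wt]
      obtain ⟨j, hj⟩ := h; omega
  · have hn : none ∉ (supp v).map Function.Embedding.some := by simp
    have hc : (insert none ((supp v).map Function.Embedding.some)).card = (supp v).card + 1 := by
      rw [Finset.card_insert_of_notMem hn, Finset.card_map]
    refine ⟨insert none ((supp v).map Function.Embedding.some), by rw [hc]; exact h.add_one, ?_, ?_⟩
    · rw [setSum_eq, hc, ZMod.natCast_eq_zero_iff_even.2 h.add_one, zero_smul, zero_add,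
        show (insert none ((supp v).map Function.Embedding.some)).eraseNone = supp v by ext; simp, ind_supp]
    · rw [hc, wt]
      obtain ⟨j, hj⟩ := h; omega

namespace Cfg

variable {G : Type u} [Group G] [Finite G] (C : Cfg G n)

theorem orbPt_injective : Function.Injective (orbPt : Option (Blk n) → Vec n) := by
  have hne : ∀ a : Blk n, (1 : Vec n) ≠ 1 + e a := fun a h => by
    have := congrFun h a
    rw [Pi.add_apply, Pi.one_apply, e_apply, if_pos rfl, z2_add_self] at this
    exact one_ne_zero this
  rintro (_ | a) (_ | b) h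
  · rfl
  · exact absurd h (hne b)
  · exact absurd h.symm (hne a)
  · have h' := congrFun (add_left_cancel (h : 1 + e a = 1 + e b)) a
    rw [e_apply, e_apply, if_pos rfl] at h'
    by_contra hne'
    rw [if_neg fun hab => hne' (congrArg some hab)] at h'
    exact one_ne_zero h'

theorem exists_labelPerm (hgood : C.Good) {f : Vec n → Vec n} (hf : f ∈ C.autX) :
    ∃ π : Equiv.Perm (Option (Blk n)), ∀ x, f (orbPt x) = orbPt (π x) := by
  have h : ∀ x, ∃ y, f (orbPt x) = orbPt y := by
    intro x
    obtain ⟨g, hg, hg1⟩ : ∃ g ∈ C.autX, g 1 = orbPt x := by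
      cases x with
      | none => exact ⟨act 1, C.lin.perm 1, rfl⟩
      | some a => exact hgood.2 a
    rcases hgood.1 _ (C.lin.comp _ hf _ hg) with h | ⟨b, h⟩
    · exact ⟨none, by rw [← hg1]; exact h⟩
    · exact ⟨some b, by rw [← hg1]; exact h⟩
  choose π hπ using h
  obtain ⟨g, -, hgf, -⟩ := C.lin.inv f hf
  have hinj : Function.Injective π := fun x y h => orbPt_injective (by
    rw [← hgf (orbPt x), hπ x, h, ← hπ y, hgf])
  exact ⟨Equiv.ofBijective π (Finite.injective_iff_bijective.1 hinj), hπ⟩

theorem exists_aut_of_perm (hgood : C.Good) (π : Equiv.Perm (Option (Blk n))) :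
    ∃ f ∈ C.autX, ∀ x, f (orbPt x) = orbPt (π x) := by
  obtain ⟨f0, hf0, h0⟩ : ∃ f ∈ C.autX, f 1 = orbPt (π none) := by
    cases π none with
    | none => exact ⟨act 1, C.lin.perm 1, rfl⟩
    | some a => exact hgood.2 a
  obtain ⟨π0, hπ0⟩ := C.exists_labelPerm hgood hf0
  have hn : π0 none = π none := orbPt_injective (by rw [← hπ0]; exact h0)
  let p' : Equiv.Perm (Option (Blk n)) := π0⁻¹ * π
  have hp' : p' none = none := by
    simp only [p', Equiv.Perm.mul_apply]; rw [← hn, Equiv.Perm.inv_def, Equiv.symm_apply_apply]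
  let p : Equiv.Perm (Blk n) := Equiv.removeNone p'
  refine ⟨fun v => f0 (act p v), C.lin.comp _ hf0 _ (C.lin.perm p), fun x => ?_⟩
  cases x with
  | none => show f0 (act p 1) = _; rw [act_one_vec]; exact h0
  | some a =>
    have hsome : some (p a) = p' (some a) := Equiv.removeNone_some p' (by
      cases hp : p' (some a) with
      | none => exact absurd (p'.injective (hp.trans hp'.symm)) (Option.some_ne_none a)
      | some b => exact ⟨b, rfl⟩)
    show f0 (act p (orbPt (some a))) = _
    rw [show act p (orbPt (some a)) = orbPt (some (p a)) by simp only [orbPt, act_add, act_one_vec, act_e],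
      hπ0, hsome]
    simp [p']

theorem map_setSum {f : Vec n → Vec n} (hf : f ∈ C.autX) {π : Equiv.Perm (Option (Blk n))}
    (hπ : ∀ x, f (orbPt x) = orbPt (π x)) (T : Finset (Option (Blk n))) : f (setSum T) = setSum (T.image π) := by
  rw [setSum, C.lin.map_sum hf, setSum, Finset.sum_image π.injective.injOn]
  exact Finset.sum_congr rfl fun x _ => hπ x

/-- Fusion in the base group is given by the weight. -/
theorem isConj_iff_wt (hgood : C.Good) (u v : Vec n) : IsConj (C.ιv u) (C.ιv v) ↔ wt u = wt v := by
  constructor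
  · intro h
    obtain ⟨g, hg⟩ := isConj_iff.1 h
    obtain ⟨g', hg', hgu⟩ := C.fusion_E hg
    obtain ⟨f, hf, hfv⟩ := C.exists_aut hg'
    have hfu : f u = v := C.ιv_inj (by rw [← hfv]; exact hgu)
    obtain ⟨π, hπ⟩ := C.exists_labelPerm hgood hf
    obtain ⟨T, hT, hTu, hTc⟩ := exists_setSum u
    rw [← hfu, ← hTu, C.map_setSum hf hπ, wt_setSum _ hT,
      wt_setSum _ (by rwa [Finset.card_image_of_injective _ π.injective]),
      Finset.card_image_of_injective _ π.injective]
  · intro h
    obtain ⟨T, -, hTu, hTc⟩ := exists_setSum u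
    obtain ⟨T', -, hTv, hTc'⟩ := exists_setSum v
    have hcard : T.card = T'.card := by rw [hTc, hTc', h]
    let e' : {x // x ∈ T} ≃ {x // x ∈ T'} := Finset.equivOfCardEq hcard
    have hπT : T.image e'.extendSubtype = T' := by
      refine Finset.eq_of_subset_of_card_le (fun y hy => ?_)
        (by rw [Finset.card_image_of_injective _ (Equiv.injective _), hcard])
      obtain ⟨x, hx, rfl⟩ := Finset.mem_image.1 hy
      exact e'.extendSubtype_mem x hx
    obtain ⟨f, hf, hfπ⟩ := C.exists_aut_of_perm hgood e'.extendSubtype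
    have := C.autX_conj hf u
    rwa [← hTu, C.map_setSum hf hfπ, hπT, hTu, hTv] at this

include C in
theorem card_involution_classes :
    Nat.card {c : ConjClasses G // ∃ x ∈ c.carrier, orderOf x = 2} = n := by
  obtain ⟨D, hgood, -⟩ := C.exists_good
  have hexists : ∀ k : Fin n, ∃ T : Finset (Blk n), T.card = 2 * (k.1 + 1) := fun k => by
    obtain ⟨T, -, hT⟩ := Finset.exists_subset_card_eq (s := (Finset.univ : Finset (Blk n)))
      (n := 2 * (k.1 + 1)) (by rw [Finset.card_univ, card_blk]; omega)
    exact ⟨T, hT⟩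
  choose T hT using hexists
  have hwt : ∀ k, wt (ind (T k)) = k.1 + 1 := fun k => by rw [wt, supp_ind, hT]; omega
  have h0 : ∀ k, ind (T k) ≠ 0 := fun k h => by
    have := hwt k
    rw [h] at this
    simp [wt, supp] at this
  have hord : ∀ k, ∃ x ∈ (ConjClasses.mk (D.ιv (ind (T k)))).carrier, orderOf x = 2 :=
    fun k => ⟨_, ConjClasses.mem_carrier_mk, D.orderOf_ιv (h0 k)⟩
  let F : Fin n → {c : ConjClasses G // ∃ x ∈ c.carrier, orderOf x = 2} := fun k => ⟨_, hord k⟩
  rw [← Nat.card_congr (Equiv.ofBijective F ⟨fun j k h => ?_, fun c => ?_⟩), Nat.card_fin]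
  · have h' := congrArg Subtype.val h
    rw [ConjClasses.mk_eq_mk_iff_isConj, D.isConj_iff_wt hgood, hwt, hwt] at h'
    exact Fin.ext (by omega)
  · obtain ⟨c, x, hxc, hx⟩ := c
    obtain ⟨P, hP⟩ := IsPGroup.exists_le_sylow (p := 2) (P := zpowers x)
      (IsPGroup.of_card (n := 1) (by rw [Nat.card_zpowers, hx, pow_one]))
    haveI := Fact.mk Nat.prime_two
    obtain ⟨g, hg⟩ := MulAction.exists_smul_eq G P D.S
    have hy : g * x * g⁻¹ ∈ (D.S : Subgroup G) := by
      rw [← hg, Sylow.coe_subgroup_smul]
      exact ⟨x, hP (mem_zpowers x), rfl⟩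
    obtain ⟨w, -, hw⟩ := D.mem_S.1 hy
    have hw2 : w * w = 1 := D.inj (by
      rw [map_mul, map_one, hw, show g * x * g⁻¹ * (g * x * g⁻¹) = g * (x * x) * g⁻¹ by group,
        ← pow_two x, ← hx, pow_orderOf_eq_one]; group)
    obtain ⟨v, hv⟩ := D.conj_into_E hgood w hw2
    have hxv : IsConj x (D.ιv v) := (isConj_iff.2 ⟨g, hw.symm⟩).trans hv
    have hv0 : v ≠ 0 := fun h => by
      rw [h, D.ιv_zero] at hxv
      rw [(isConj_one_right.1 hxv.symm), orderOf_one] at hx
      exact one_ne_two' hx
    have hb : 1 ≤ wt v ∧ wt v ≤ n := by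
      have h1 : 0 < (supp v).card := Finset.card_pos.2 (by
        by_contra he
        rw [Finset.not_nonempty_iff_eq_empty] at he
        exact hv0 (by rw [← ind_supp v, he]; rfl))
      have h2 : (supp v).card ≤ 2 * n := card_blk (n := n) ▸ Finset.card_le_univ _
      rw [wt]; omega
    refine ⟨⟨wt v - 1, by omega⟩, Subtype.ext ?_⟩
    show ConjClasses.mk _ = c
    rw [← ConjClasses.mem_carrier_iff_mk_eq.1 hxc, ConjClasses.mk_eq_mk_iff_isConj]
    refine IsConj.trans ((D.isConj_iff_wt hgood _ v).2 ?_) hxv.symm
    rw [hwt]; show wt v - 1 + 1 = wt v; omega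
where
  one_ne_two' (h : (1 : ℕ) = 2) : False := by omega

end Cfg

end Cfsg.Agent.Lib.Inv59.Kondo
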