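import Cfsg.Agent.Lib.Inv59.Kondo.Count

/-!
# The centraliser of a fixed point poor involution in an alternating group
-/

set_option autoImplicit false
set_option linter.style.haveILetI false
set_option linter.unusedSectionVars false

namespace Cfsg.Agent.Lib.Inv59.Kondo

open Subgroup Equiv

universe u

variable {n s : ℕ}

/-- The points. -/
abbrev Pt (n s : ℕ) := (Blk n × ZMod 2) ⊕ Fin (s + 2)

/-- The permutation of the moved points given by an element of the wreath product. -/
def movedPerm : W n →* Equiv.Perm (Blk n × ZMod 2) where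
  toFun w :=
    { toFun := fun q => (w.p q.1, q.2 + w.v (w.p q.1))
      invFun := fun q => (w.p⁻¹ q.1, q.2 + w.v q.1)
      left_inv := fun q => by
        refine Prod.ext ?_ ?_
        · exact w.p.symm_apply_apply q.1
        · show q.2 + w.v (w.p q.1) + w.v (w.p q.1) = q.2
          rw [add_assoc, z2_add_self, add_zero]
      right_inv := fun q => by
        refine Prod.ext ?_ ?_
        · exact w.p.apply_symm_apply q.1
        · show q.2 + w.v q.1 + w.v (w.p (w.p.symm q.1)) = q.2
          rw [Equiv.apply_symm_apply, add_assoc, z2_add_self, add_zero] }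
  map_one' := Equiv.ext fun q => Prod.ext rfl (add_zero q.2)
  map_mul' x y := Equiv.ext fun q => Prod.ext rfl (by
    show q.2 + (x.v + act x.p y.v) (x.p (y.p q.1)) = q.2 + y.v (y.p q.1) + x.v (x.p (y.p q.1))
    rw [Pi.add_apply, act_apply, Equiv.Perm.inv_def, Equiv.symm_apply_apply]; abel)

theorem movedPerm_apply (w : W n) (q : Blk n × ZMod 2) : movedPerm w q = (w.p q.1, q.2 + w.v (w.p q.1)) := rfl

/-- The transposition of two fixed points. -/
def tau (s : ℕ) : Equiv.Perm (Fin (s + 2)) := Equiv.swap 0 1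

/-- The permutation of the fixed points given by an element of the wreath product. -/
def fixedPerm : W n →* Equiv.Perm (Fin (s + 2)) where
  toFun w := if w.sgnV = 1 then tau s else 1
  map_one' := if_neg (by show par (0 : Vec n) ≠ 1; simp [par])
  map_mul' x y := by
    rw [W.sgnV_mul]
    rcases z2_cases x.sgnV with h | h <;> rcases z2_cases y.sgnV with h' | h' <;>
      simp [h, h', z2_add_self, tau]

/-- The embedding of the wreath product. -/
def modelHom : W n →* Equiv.Perm (Pt n s) :=
  (Equiv.Perm.sumCongrHom _ _).comp (movedPerm.prod fixedPerm)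

theorem modelHom_apply (w : W n) : modelHom (s := s) w = Equiv.Perm.sumCongr (movedPerm w) (fixedPerm w) := rfl

/-- The flip of all moved pairs. -/
def flipAll : Equiv.Perm (Pt n s) := modelHom (W.vec 1)

theorem flipAll_inl (q : Blk n × ZMod 2) : flipAll (n := n) (s := s) (Sum.inl q) = Sum.inl (q.1, q.2 + 1) := rfl

theorem flipAll_inr (i : Fin (s + 2)) : flipAll (n := n) (s := s) (Sum.inr i) = Sum.inr i := by
  show Sum.inr (fixedPerm (W.vec (1 : Vec n)) i) = _
  congr 1
  show (if (W.vec (1 : Vec n)).sgnV = 1 then tau s else 1) i = i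
  rw [if_neg (by show par (1 : Vec n) ≠ 1; rw [par_one]; exact zero_ne_one)]
  rfl

theorem modelHom_comm (w : W n) : modelHom (s := s) w * flipAll = flipAll * modelHom w := by
  rw [flipAll, ← map_mul, ← map_mul, (W.commute_vec_iff w 1).2 (act_one_vec _)]

theorem sign_modelHom (w : W n) : Equiv.Perm.sign (modelHom (s := s) w) = 1 := by
  let χ : W n →* ℤˣ := Equiv.Perm.sign.comp (modelHom (s := s))
  have hvec : ∀ a, χ (W.vec (e a)) = 1 := by
    intro a
    show Equiv.Perm.sign (Equiv.Perm.sumCongr (movedPerm (W.vec (e a))) (fixedPerm (W.vec (e a)))) = 1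
    rw [Equiv.Perm.sign_sumCongr]
    have h1 : movedPerm (W.vec (e a)) = Equiv.swap (a, 0) (a, 1) := by
      refine Equiv.ext fun q => ?_
      obtain ⟨b, x⟩ := q
      show (b, x + e a b) = _
      rw [e_apply]
      by_cases h : b = a
      · subst h
        rw [if_pos rfl]
        rcases z2_cases x with rfl | rfl
        · rw [Equiv.swap_apply_left, zero_add]
        · rw [Equiv.swap_apply_right, z2_add_self]
      · rw [if_neg h, add_zero, Equiv.swap_apply_of_ne_of_ne]
        · exact fun h' => h (congrArg Prod.fst h')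
        · exact fun h' => h (congrArg Prod.fst h')
    have h2 : fixedPerm (s := s) (W.vec (e a)) = tau s := if_pos (par_e a)
    rw [h1, h2, tau, Equiv.Perm.sign_swap (fun h => zero_ne_one (congrArg Prod.snd h : (0 : ZMod 2) = 1)),
      Equiv.Perm.sign_swap (by intro h; exact absurd (congrArg Fin.val h) (by simp))]
    rfl
  have hprm : ∀ p, χ (W.prm p) = 1 := by
    intro p
    induction p using Equiv.Perm.swap_induction_on with
    | one => rw [show W.prm (1 : Equiv.Perm (Blk n)) = 1 from rfl, map_one]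
    | swap_mul p a b hab ih =>
      rw [show W.prm (Equiv.swap a b * p) = W.prm (Equiv.swap a b) * W.prm p from W.ext (by simp) rfl,
        map_mul, ih, mul_one]
      show Equiv.Perm.sign (Equiv.Perm.sumCongr (movedPerm (W.prm (Equiv.swap a b)))
        (fixedPerm (W.prm (Equiv.swap a b)))) = 1
      rw [Equiv.Perm.sign_sumCongr]
      have h1 : movedPerm (W.prm (Equiv.swap a b)) = Equiv.swap (a, 0) (b, 0) * Equiv.swap (a, 1) (b, 1) := by
        refine Equiv.ext fun q => ?_
        obtain ⟨c, x⟩ := q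
        show (Equiv.swap a b c, x + 0) = _
        rw [add_zero, Equiv.Perm.mul_apply]
        rcases z2_cases x with rfl | rfl <;> by_cases h1 : c = a
        · subst h1; simp [Equiv.swap_apply_def]
        · by_cases h2 : c = b
          · subst h2; simp [Equiv.swap_apply_def, h1]
          · simp [Equiv.swap_apply_def, h1, h2]
        · subst h1; simp [Equiv.swap_apply_def]
        · by_cases h2 : c = b
          · subst h2; simp [Equiv.swap_apply_def, h1]
          · simp [Equiv.swap_apply_def, h1, h2]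
      have h2 : fixedPerm (s := s) (W.prm (Equiv.swap a b)) = 1 :=
        if_neg (by show par (0 : Vec n) ≠ 1; simp [par])
      rw [h1, h2, map_mul, Equiv.Perm.sign_swap (fun h => hab (congrArg Prod.fst h)),
        Equiv.Perm.sign_swap (fun h => hab (congrArg Prod.fst h)), map_one, mul_one]
      rfl
  show χ w = 1
  rw [show w = W.vec w.v * W.prm w.p from W.ext (by simp) (by simp), map_mul, hprm, mul_one]
  have key : ∀ S : Finset (Blk n), χ (W.vec (∑ a ∈ S, e a)) = 1 := by
    intro S
    induction S using Finset.induction_on with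
    | empty => rw [Finset.sum_empty, W.vec_zero, map_one]
    | insert a S ha ih => rw [Finset.sum_insert ha, W.vec_add, map_mul, hvec, ih, mul_one]
  have := key (supp w.v)
  rwa [show ∑ a ∈ supp w.v, e a = w.v from ind_supp w.v] at this

/-- The even permutations of the fixed points. -/
def modelK : Subgroup (Equiv.Perm (Pt n s)) :=
  (alternatingGroup (Fin (s + 2))).map
    ((Equiv.Perm.sumCongrHom (Blk n × ZMod 2) (Fin (s + 2))).comp (MonoidHom.inr _ _))

theorem mem_modelK {σ : Equiv.Perm (Pt n s)} :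
    σ ∈ modelK ↔ ∃ ρ : Equiv.Perm (Fin (s + 2)), Equiv.Perm.sign ρ = 1 ∧ Equiv.Perm.sumCongr 1 ρ = σ := by
  constructor
  · rintro ⟨ρ, hρ, rfl⟩; exact ⟨ρ, Equiv.Perm.mem_alternatingGroup.1 hρ, rfl⟩
  · rintro ⟨ρ, hρ, rfl⟩; exact ⟨ρ, Equiv.Perm.mem_alternatingGroup.2 hρ, rfl⟩

theorem odd_card_alt_two : Nat.card (alternatingGroup (Fin 2)) = 1 := by
  have h := two_mul_nat_card_alternatingGroup (α := Fin 2)
  rw [Nat.card_perm, Nat.card_fin, Nat.factorial_two] at h
  omega

theorem odd_card_alt_three : Nat.card (alternatingGroup (Fin 3)) = 3 := by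
  have h := two_mul_nat_card_alternatingGroup (α := Fin 3)
  rw [Nat.card_perm, Nat.card_fin, show Nat.factorial 3 = 6 from rfl] at h
  omega

theorem tau_free_two : ∀ ρ : Equiv.Perm (Fin 2), Equiv.Perm.sign ρ = 1 →
    Equiv.swap 0 1 * ρ = ρ * Equiv.swap 0 1 → ρ = 1 := by
  decide +kernel

theorem tau_free_three : ∀ ρ : Equiv.Perm (Fin 3), Equiv.Perm.sign ρ = 1 →
    Equiv.swap 0 1 * ρ = ρ * Equiv.swap 0 1 → ρ = 1 := by
  decide +kernel

theorem modelK_le {σ : Equiv.Perm (Pt n s)} (h : σ ∈ modelK) :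
    Equiv.Perm.sign σ = 1 ∧ σ * flipAll = flipAll * σ := by
  obtain ⟨ρ, hρ, rfl⟩ := mem_modelK.1 h
  refine ⟨by rw [Equiv.Perm.sign_sumCongr, map_one, one_mul, hρ], Equiv.ext fun x => ?_⟩
  rw [Equiv.Perm.mul_apply, Equiv.Perm.mul_apply]
  rcases x with q | i
  · rw [flipAll_inl]; show Sum.inl _ = flipAll (Sum.inl q); rw [flipAll_inl]; rfl
  · rw [flipAll_inr]; show Sum.inr (ρ i) = flipAll (Sum.inr (ρ i)); rw [flipAll_inr]

theorem model_decomp {σ : Equiv.Perm (Pt n s)} (hs : Equiv.Perm.sign σ = 1) (hc : σ * flipAll = flipAll * σ) :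
    ∃ w : W n, ∃ k ∈ modelK, σ = modelHom w * k := by
  have hc' : ∀ x, σ (flipAll x) = flipAll (σ x) := fun x => congrArg (fun q : Equiv.Perm (Pt n s) => q x) hc
  have hinl : ∀ q, ∃ q', σ (Sum.inl q) = Sum.inl q' := by
    intro q
    cases hq : σ (Sum.inl q) with
    | inl q' => exact ⟨q', rfl⟩
    | inr i =>
      exfalso
      have h := hc' (Sum.inl q)
      rw [flipAll_inl, hq, flipAll_inr, ← hq] at h
      have h2 := congrArg Prod.snd (Sum.inl.inj (σ.injective h))
      simp at h2
  choose g hg using hinl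
  have hflip : ∀ b x, g (b, x + 1) = ((g (b, x)).1, (g (b, x)).2 + 1) := fun b x => by
    have h := hc' (Sum.inl (b, x))
    rw [flipAll_inl, hg, hg, flipAll_inl] at h
    exact Sum.inl.inj h
  have hinj : Function.Injective fun b => (g (b, 0)).1 := by
    intro b b' h
    rcases z2_cases ((g (b, 0)).2 + (g (b', 0)).2) with h2 | h2
    · have : g (b, 0) = g (b', 0) := Prod.ext h (by
        calc (g (b, 0)).2 = (g (b, 0)).2 + (g (b', 0)).2 + (g (b', 0)).2 := by rw [add_assoc, z2_add_self, add_zero]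
          _ = (g (b', 0)).2 := by rw [h2, zero_add])
      have h3 : σ (Sum.inl (b, 0)) = σ (Sum.inl (b', 0)) := by rw [hg, hg, this]
      exact congrArg Prod.fst (Sum.inl.inj (σ.injective h3))
    · have : g (b, 0 + 1) = g (b', 0) := by
        rw [hflip]
        refine Prod.ext h ?_
        show (g (b, 0)).2 + 1 = _
        rw [← h2, ← add_assoc, z2_add_self, zero_add]
      have h3 : σ (Sum.inl (b, 0 + 1)) = σ (Sum.inl (b', 0)) := by rw [hg, hg, this]
      have := congrArg Prod.snd (Sum.inl.inj (σ.injective h3))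
      simp at this
  let p : Equiv.Perm (Blk n) := Equiv.ofBijective _ (Finite.injective_iff_bijective.1 hinj)
  let w : W n := ⟨fun b => (g (p.symm b, 0)).2, p⟩
  have hw : ∀ q, modelHom (s := s) w (Sum.inl q) = σ (Sum.inl q) := by
    rintro ⟨b, x⟩
    show Sum.inl (p b, x + (g (p.symm (p b), 0)).2) = _
    rw [Equiv.symm_apply_apply, hg]
    rcases z2_cases x with rfl | rfl
    · rw [zero_add]; rfl
    · rw [show g (b, 1) = g (b, 0 + 1) by rw [zero_add], hflip, add_comm (1 : ZMod 2)]; rfl
  set k := (modelHom (s := s) w)⁻¹ * σ with hk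
  have hkl : ∀ q, k (Sum.inl q) = Sum.inl q := fun q => by
    rw [hk, Equiv.Perm.mul_apply, ← hw, Equiv.Perm.inv_def, Equiv.symm_apply_apply]
  have hkr : ∀ i, ∃ j, k (Sum.inr i) = Sum.inr j := by
    intro i
    cases hq : k (Sum.inr i) with
    | inl q => exact absurd (k.injective (hq.trans (hkl q).symm)) (by simp)
    | inr j => exact ⟨j, rfl⟩
  choose ρ hρ using hkr
  have hρi : Function.Injective ρ := fun i j h => by
    have : k (Sum.inr i) = k (Sum.inr j) := by rw [hρ, hρ, h]
    exact Sum.inr.inj (k.injective this)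
  let ρ' : Equiv.Perm (Fin (s + 2)) := Equiv.ofBijective ρ (Finite.injective_iff_bijective.1 hρi)
  have hkeq : Equiv.Perm.sumCongr 1 ρ' = k := Equiv.ext fun x => by
    rcases x with q | i
    · rw [hkl]; rfl
    · rw [hρ]; rfl
  refine ⟨w, k, mem_modelK.2 ⟨ρ', ?_, hkeq⟩, by rw [hk, mul_inv_cancel_left]⟩
  have := congrArg Equiv.Perm.sign hkeq
  rw [Equiv.Perm.sign_sumCongr, map_one, one_mul] at this
  rw [this, hk, map_mul, map_inv, sign_modelHom, hs]; rfl

theorem modelHom_meet {w : W n} (h : modelHom (s := s) w ∈ modelK) : w = 1 := by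
  obtain ⟨ρ, -, h⟩ := mem_modelK.1 h
  have hb : ∀ b, w.p b = b ∧ w.v (w.p b) = 0 := fun b => by
    have h' := congrArg (fun q : Equiv.Perm (Pt n s) => q (Sum.inl (b, 0))) h
    have h'' : ((b, (0 : ZMod 2)) : Blk n × ZMod 2) = (w.p b, 0 + w.v (w.p b)) := Sum.inl.inj h'
    refine ⟨(congrArg Prod.fst h'').symm, ?_⟩
    have := congrArg Prod.snd h''
    rw [zero_add] at this
    exact this.symm
  refine W.ext (funext fun b => ?_) (Equiv.ext fun b => (hb b).1)
  have := (hb (w.p.symm b)).2
  rwa [Equiv.apply_symm_apply] at this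

theorem modelHom_injective : Function.Injective (modelHom (n := n) (s := s)) := by
  intro x y h
  have := modelHom_meet (s := s) (w := x⁻¹ * y)
    (by rw [map_mul, map_inv, h, inv_mul_cancel]; exact one_mem _)
  exact inv_mul_eq_one.1 this

theorem modelK_conj (w : W n) {σ : Equiv.Perm (Pt n s)} (h : σ ∈ modelK) :
    modelHom w * σ * (modelHom w)⁻¹ ∈ modelK := by
  obtain ⟨ρ, hρ, rfl⟩ := mem_modelK.1 h
  refine mem_modelK.2 ⟨fixedPerm w * ρ * (fixedPerm w)⁻¹, ?_, ?_⟩
  · rw [map_mul, map_mul, map_inv, hρ, mul_one, mul_inv_cancel]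
  · rw [modelHom_apply, Equiv.Perm.sumCongr_inv, Equiv.Perm.sumCongr_mul, Equiv.Perm.sumCongr_mul, mul_one,
      mul_inv_cancel]

theorem modelK_free (hs : s ≤ 1) {w : W n} (hw : w.sgnV = 1) {σ : Equiv.Perm (Pt n s)} (h : σ ∈ modelK)
    (hc : modelHom w * σ = σ * modelHom w) : σ = 1 := by
  obtain ⟨ρ, hρ, rfl⟩ := mem_modelK.1 h
  rw [modelHom_apply, Equiv.Perm.sumCongr_mul, Equiv.Perm.sumCongr_mul,
    show fixedPerm (s := s) w = tau s from if_pos hw] at hc
  have hc' : tau s * ρ = ρ * tau s := by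
    refine Equiv.ext fun i => ?_
    exact Sum.inr.inj (congrArg (fun q : Equiv.Perm (Pt n s) => q (Sum.inr i)) hc)
  rcases Nat.le_one_iff_eq_zero_or_eq_one.1 hs with rfl | rfl
  · rw [tau_free_two ρ hρ hc']; exact Equiv.Perm.sumCongr_one
  · rw [tau_free_three ρ hρ hc']; exact Equiv.Perm.sumCongr_one

theorem odd_modelK (hs : s ≤ 1) : Odd (Nat.card (modelK (n := n) (s := s))) := by
  rw [modelK, Subgroup.card_map_of_injective]
  · rcases Nat.le_one_iff_eq_zero_or_eq_one.1 hs with rfl | rfl
    · rw [show Nat.card (alternatingGroup (Fin (0 + 2))) = 1 from odd_card_alt_two]; decide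
    · rw [show Nat.card (alternatingGroup (Fin (1 + 2))) = 3 from odd_card_alt_three]; decide
  · intro x y h
    exact (congrArg Prod.snd (Equiv.Perm.sumCongrHom_injective h) : _)

/-- The central involutions. -/
theorem central_eq_flipAll (hn : 0 < n) (hs : s ≤ 1) {σ : Equiv.Perm (Pt n s)} (h1 : Equiv.Perm.sign σ = 1)
    (h2 : σ * flipAll = flipAll * σ) (hσ : σ * σ = 1) (hne : σ ≠ 1)
    (hcen : ∀ τ, Equiv.Perm.sign τ = 1 → τ * flipAll = flipAll * τ → σ * τ = τ * σ) : σ = flipAll := by
  obtain ⟨w, k, hk, rfl⟩ := model_decomp h1 h2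
  have hwc : ∀ x : W n, w * x = x * w := by
    intro x
    have h := hcen (modelHom x) (sign_modelHom x) (modelHom_comm x)
    have h' : modelHom (w * x)⁻¹ * modelHom (x * w) ∈ modelK (n := n) (s := s) := by
      have hx := modelK_conj x⁻¹ hk
      rw [map_inv, inv_inv] at hx
      have e' : modelHom (w * x)⁻¹ * modelHom (x * w) =
          ((modelHom x)⁻¹ * k * modelHom x) * k⁻¹ := by
        rw [map_inv, map_mul, map_mul]
        calc (modelHom w * modelHom x)⁻¹ * (modelHom x * modelHom w)
            = (modelHom w * modelHom x)⁻¹ * (modelHom x * (modelHom w * k)) * k⁻¹ := by group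
          _ = _ := by rw [← h]; group
      rw [e']
      exact mul_mem hx (inv_mem hk)
    rw [← map_mul] at h'
    exact inv_mul_eq_one.1 (modelHom_meet h')
  have hp : w.p = 1 := Equiv.ext fun a => by
    have h := (W.commute_vec_iff w (e a)).1 (hwc _)
    rw [act_e] at h
    have h' := congrFun h (w.p a)
    rw [e_apply, e_apply, if_pos rfl] at h'
    show w.p a = a
    by_contra hne'
    rw [if_neg hne'] at h'
    exact one_ne_zero h'
  let a0 : Blk n := (⟨0, hn⟩, 0)
  have hv : w.v = fun _ => w.v a0 := funext fun b => by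
    have h := congrFun (congrArg W.v (hwc (W.prm (Equiv.swap a0 b)))) b
    simp only [W.mul_v, W.prm_v, W.prm_p, act_zero, add_zero, zero_add, act_apply, Equiv.swap_inv,
      Equiv.swap_apply_right] at h
    exact h
  have hk2 : ∀ {k : Equiv.Perm (Pt n s)}, k ∈ modelK → k * k = 1 → k = 1 := by
    intro k hk hkk
    obtain ⟨j, hj⟩ := (odd_modelK (n := n) hs).of_dvd_nat (Subgroup.orderOf_dvd_natCard _ hk)
    calc k = k ^ (orderOf k + 1) * ((k * k) ^ (j + 1))⁻¹ * k := by
          rw [← pow_two, ← pow_mul, show 2 * (j + 1) = orderOf k + 1 by omega, mul_inv_cancel, one_mul]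
      _ = 1 := by
          rw [pow_succ, pow_orderOf_eq_one, one_mul, hkk, one_pow, inv_one, mul_one, hkk]
  rcases z2_cases (w.v a0) with h0 | h0
  · exfalso
    have hw1 : w = 1 := W.ext (by rw [hv, h0]; rfl) hp
    rw [hw1, map_one, one_mul] at hσ hne
    exact hne (hk2 hk hσ)
  · have hw1 : w = W.vec 1 := W.ext (by rw [hv, h0]; rfl) hp
    rw [hw1] at hσ ⊢
    have hkc : k * flipAll = flipAll * k := (modelK_le hk).2
    have : k = 1 := hk2 hk (by
      rw [← flipAll] at hσ
      calc k * k = flipAll * flipAll * (k * k) := by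
            rw [flipAll, ← map_mul, W.vec_mul_self, map_one, one_mul]
        _ = flipAll * k * (flipAll * k) := by rw [mul_assoc, mul_assoc, ← mul_assoc k, hkc]; group
        _ = 1 := hσ)
    rw [this, mul_one, flipAll]

/-- Relabelling the points. -/
theorem exists_relabel {N : ℕ} (a : Equiv.Perm (Fin N)) (ha : a * a = 1) (hsupp : a.support.card = 4 * n)
    (hN : N = 4 * n + (s + 2)) : ∃ e' : Fin N ≃ Pt n s, ∀ x, e' (a x) = flipAll (e' x) := by
  classical
  have haa : ∀ x, a (a x) = x := fun x => congrArg (fun q : Equiv.Perm (Fin N) => q x) ha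
  let R := {x : Fin N // x < a x}
  let F := {x : Fin N // a x = x}
  let φ : (R × ZMod 2) ⊕ F → Fin N := fun
    | .inl (x, j) => if j = 0 then x.1 else a x.1
    | .inr x => x.1
  have hφ : Function.Bijective φ := by
    constructor
    · rintro (⟨⟨x, hx⟩, i⟩ | ⟨x, hx⟩) (⟨⟨y, hy⟩, j⟩ | ⟨y, hy⟩) h
      · rcases z2_cases i with rfl | rfl <;> rcases z2_cases j with rfl | rfl <;>
          simp only [φ, if_pos, one_ne_zero, if_false] at h
        · subst h; rfl
        · exfalso; subst h; rw [haa] at hx; exact lt_asymm hx hy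
        · exfalso; subst h; rw [haa] at hy; exact lt_asymm hx hy
        · obtain rfl := a.injective h; rfl
      · exfalso
        rcases z2_cases i with rfl | rfl <;> simp only [φ, if_pos, one_ne_zero, if_false] at h <;> subst h
        · exact absurd hy (ne_of_gt hx)
        · rw [haa] at hy; exact absurd hy (ne_of_lt hx)
      · exfalso
        rcases z2_cases j with rfl | rfl <;> simp only [φ, if_pos, one_ne_zero, if_false] at h <;> subst h
        · exact absurd hx (ne_of_gt hy)
        · rw [haa] at hx; exact absurd hx (ne_of_lt hy)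
      · simp only [φ] at h; subst h; rfl
    · intro y
      rcases lt_trichotomy y (a y) with h | h | h
      · exact ⟨.inl (⟨y, h⟩, 0), by simp [φ]⟩
      · exact ⟨.inr ⟨y, h.symm⟩, rfl⟩
      · exact ⟨.inl (⟨a y, by rwa [haa]⟩, 1), by simp [φ, haa]⟩
  have hF : Nat.card F = s + 2 := by
    have h1 : Fintype.card F = a.supportᶜ.card := by
      rw [Fintype.card_subtype]
      congr 1
      ext x; simp [Equiv.Perm.mem_support]
    rw [Nat.card_eq_fintype_card, h1, Finset.card_compl, Fintype.card_fin, hsupp, hN]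
    omega
  have hR : Nat.card R = 2 * n := by
    have := Nat.card_congr (Equiv.ofBijective φ hφ)
    rw [Nat.card_sum, Nat.card_prod, hF, Nat.card_fin, Nat.card_eq_fintype_card (α := ZMod 2), ZMod.card, hN] at this
    omega
  let eR : R ≃ Blk n := (Finite.equivFinOfCardEq hR).trans
    ((finCongr (mul_comm 2 n)).trans finProdFinEquiv.symm)
  let eF : F ≃ Fin (s + 2) := Finite.equivFinOfCardEq hF
  let E : Pt n s ≃ Fin N :=
    (Equiv.sumCongr (eR.prodCongr (Equiv.refl _)) eF).symm.trans (Equiv.ofBijective φ hφ)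
  have hE : ∀ p, a (E p) = E (flipAll p) := by
    rintro (⟨b, j⟩ | i)
    · rw [flipAll_inl]
      show a (φ (.inl (eR.symm b, j))) = φ (.inl (eR.symm b, j + 1))
      rcases z2_cases j with rfl | rfl
      · simp [φ]
      · simp [φ, haa, z2_add_self]
    · rw [flipAll_inr]
      exact (eF.symm i).2
  refine ⟨E.symm, fun x => ?_⟩
  obtain ⟨p, rfl⟩ := E.surjective x
  rw [hE, Equiv.symm_apply_apply, Equiv.symm_apply_apply]

variable {G : Type u} [Group G] [Finite G]

/-- The configuration of a group with this centraliser. -/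
theorem exists_cfg {N : ℕ} (hn : 0 < n) (hs : s ≤ 1) (hN : N = 4 * n + (s + 2))
    (α : ↥(alternatingGroup (Fin N))) (hα : orderOf α = 2) (hα4 : (α : Equiv.Perm (Fin N)).support.card = 4 * n)
    (h2 : ∀ H : Subgroup G, H.Normal → H.index ≠ 2)
    (t : G) (ht : orderOf t = 2) (S : Sylow 2 G) (htZ : ∀ x ∈ (S : Subgroup G), x * t = t * x)
    (hiso : ↥(centralizer ({t} : Set G)) ≃* ↥(centralizer ({α} : Set ↥(alternatingGroup (Fin N))))) :
    Nonempty (Cfg G n) := by
  classical
  have hαα : (α : Equiv.Perm (Fin N)) * α = 1 := by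
    have := pow_orderOf_eq_one α
    rw [hα, pow_two] at this
    exact congrArg Subtype.val this
  obtain ⟨e', he'⟩ := exists_relabel (n := n) (s := s) _ hαα hα4 hN
  have hflip : e'.permCongrHom (α : Equiv.Perm (Fin N)) = flipAll := Equiv.ext fun y => by
    show e' ((α : Equiv.Perm (Fin N)) (e'.symm y)) = _
    rw [he', Equiv.apply_symm_apply]
  set Z := centralizer ({t} : Set G) with hZ
  let ψ : ↥Z →* Equiv.Perm (Pt n s) := (e'.permCongrHom.toMonoidHom.comp
    ((alternatingGroup (Fin N)).subtype.comp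
      ((centralizer ({α} : Set ↥(alternatingGroup (Fin N)))).subtype.comp hiso.toMonoidHom)))
  have hψi : Function.Injective ψ := fun x y h =>
    hiso.injective (Subtype.ext (Subtype.ext (e'.permCongrHom.injective h)))
  have hsign : ∀ x, Equiv.Perm.sign (ψ x) = 1 := fun x => by
    show Equiv.Perm.sign (e'.permCongr ((hiso x : ↥(alternatingGroup (Fin N))) : Equiv.Perm (Fin N))) = 1
    rw [Equiv.Perm.sign_permCongr]
    exact (hiso x : ↥(alternatingGroup (Fin N))).2
  have hcomm : ∀ x, ψ x * flipAll = flipAll * ψ x := fun x => by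
    have h := congrArg Subtype.val (mem_centralizer_singleton_iff.1 (hiso x).2)
    have h' := congrArg e'.permCongrHom h
    simp only [Subgroup.coe_mul, map_mul, hflip] at h'
    exact h'
  have hsurj : ∀ σ, Equiv.Perm.sign σ = 1 → σ * flipAll = flipAll * σ → ∃ x, ψ x = σ := by
    intro σ h1 h2'
    have hm : Equiv.Perm.sign (e'.permCongrHom.symm σ) = 1 := by
      show Equiv.Perm.sign (e'.symm.permCongr σ) = 1
      rw [Equiv.Perm.sign_permCongr]; exact h1
    let β : ↥(alternatingGroup (Fin N)) := ⟨_, Equiv.Perm.mem_alternatingGroup.2 hm⟩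
    have hβ : β ∈ centralizer ({α} : Set ↥(alternatingGroup (Fin N))) := mem_centralizer_singleton_iff.2
      (Subtype.ext (e'.permCongrHom.injective (by
        simp only [Subgroup.coe_mul, map_mul, hflip, β, MulEquiv.apply_symm_apply]; exact h2')))
    refine ⟨hiso.symm ⟨β, hβ⟩, ?_⟩
    simp [ψ, β]
    ext x; simp
  have htc : ∀ x : ↥Z, (x : G) * t = t * x := fun x => mem_centralizer_singleton_iff.1 x.2
  let tZ : ↥Z := ⟨t, mem_centralizer_singleton_iff.2 rfl⟩
  have htt : t * t = 1 := by rw [← pow_two, ← ht, pow_orderOf_eq_one]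
  have hψt : ψ tZ = flipAll := by
    refine central_eq_flipAll hn hs (hsign _) (hcomm _)
      (by rw [← map_mul, show tZ * tZ = 1 from Subtype.ext htt, map_one])
      (fun h => ?_) fun τ h1 h2' => ?_
    · have ht1 : t = 1 := congrArg Subtype.val (hψi (h.trans (map_one ψ).symm))
      rw [ht1, orderOf_one] at ht; omega
    · obtain ⟨x, rfl⟩ := hsurj τ h1 h2'
      rw [← map_mul, ← map_mul]
      exact congrArg ψ (Subtype.ext (htc x).symm)
  have hι : ∀ w, ∃ x, ψ x = modelHom w := fun w => hsurj _ (sign_modelHom w) (modelHom_comm w)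
  choose ι0 hι0 using hι
  let ι : W n →* G := Z.subtype.comp
    { toFun := ι0
      map_one' := hψi (by rw [hι0, map_one, map_one])
      map_mul' := fun x y => hψi (by rw [hι0, map_mul, map_mul, hι0, hι0]) }
  have hιt : ι (W.vec 1) = t := congrArg Subtype.val (hψi ((hι0 _).trans hψt.symm) : ι0 (W.vec 1) = tZ)
  have hιi : Function.Injective ι := fun x y h => by
    have : ι0 x = ι0 y := Subtype.ext h
    exact modelHom_injective (s := s) (by rw [← hι0, ← hι0, this])
  let K : Subgroup G := ((modelK (n := n) (s := s)).comap ψ).map Z.subtype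
  have hKmem : ∀ x : ↥Z, (x : G) ∈ K ↔ ψ x ∈ modelK := fun x =>
    ⟨fun ⟨y, hy, h⟩ => Subtype.ext h ▸ hy, fun h => ⟨x, h, rfl⟩⟩
  refine ⟨⟨hn, ι, hιi, K, ?_, ?_, ?_, ?_, ?_, ?_, ?_, ?_⟩⟩
  · rw [card_map_of_injective Z.subtype_injective]
    refine (odd_modelK (n := n) hs).of_dvd_nat ?_
    exact Subgroup.card_comap_dvd_of_injective _ ψ hψi
  · intro x hx
    rw [hιt] at hx
    let xZ : ↥Z := ⟨x, mem_centralizer_singleton_iff.2 hx⟩
    obtain ⟨w, k, hk, h⟩ := model_decomp (hsign xZ) (hcomm xZ)
    obtain ⟨y, hy⟩ := hsurj k (modelK_le hk).1 (modelK_le hk).2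
    refine ⟨w, y, (hKmem y).2 (hy.symm ▸ hk), ?_⟩
    exact congrArg Subtype.val (hψi (h.trans (by rw [map_mul, hι0, hy])) : xZ = ι0 w * y)
  · rintro _ ⟨x, -, rfl⟩
    rw [hιt]; exact htc x
  · rintro w _ ⟨x, hx, rfl⟩
    have h1 : ψ (ι0 w * x * (ι0 w)⁻¹) ∈ modelK := by
      rw [map_mul, map_mul, map_inv, hι0]; exact modelK_conj w hx
    exact (hKmem _).2 h1
  · intro w hw
    have := (hKmem (ι0 w)).1 hw
    rw [hι0] at this
    exact modelHom_meet this
  · rintro w hw _ ⟨x, hx, rfl⟩ hc
    have hc' : ι0 w * x = x * ι0 w := Subtype.ext hc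
    have := modelK_free hs hw hx (by rw [← hι0, ← map_mul, hc', map_mul])
    rw [show x = 1 from hψi (this.trans (map_one ψ).symm)]
    rfl
  · intro H hH
    exact h2 H (normal_of_index_eq_two hH) hH
  · rw [hιt]
    have hle : (S : Subgroup G) ≤ Z := fun x hx => mem_centralizer_singleton_iff.2 (htZ x hx)
    haveI := Fact.mk Nat.prime_two
    exact Nat.not_even_iff_odd.1 fun h => S.not_dvd_index (h.two_dvd.trans (index_dvd_of_le hle))

end Cfsg.Agent.Lib.Inv59.Kondo
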