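import Cfsg.Agent.Lib.Inv59.Kondo.Wreath

/-!
# Linear groups in which the symmetric group is the stabiliser of the all-one vector
-/

set_option autoImplicit false
set_option linter.unusedSectionVars false

namespace Cfsg.Agent.Lib.Inv59.Kondo

variable {n : ℕ}

/-- The hypotheses on the set of automorphisms. -/
structure Lin (X : Set (Vec n → Vec n)) : Prop where
  npos : 0 < n
  add : ∀ f ∈ X, ∀ u v : Vec n, f (u + v) = f u + f v
  comp : ∀ f ∈ X, ∀ g ∈ X, (fun v => f (g v)) ∈ X
  inv : ∀ f ∈ X, ∃ g ∈ X, (∀ v, g (f v) = v) ∧ ∀ v, f (g v) = v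
  perm : ∀ p : Equiv.Perm (Blk n), act p ∈ X
  stab : ∀ f ∈ X, f 1 = 1 → ∃ p : Equiv.Perm (Blk n), f = act p
  moves : ∃ f ∈ X, ∃ v : Vec n, par (f v) ≠ par v

theorem Lin.map_zero {X : Set (Vec n → Vec n)} (L : Lin X) {f : Vec n → Vec n} (hf : f ∈ X) : f 0 = 0 := by
  have h := L.add f hf 0 0
  rw [add_zero] at h
  rw [h, vec_add_self]

theorem Lin.map_sum {X : Set (Vec n → Vec n)} (L : Lin X) {f : Vec n → Vec n} (hf : f ∈ X) {β : Type*}
    (s : Finset β) (g : β → Vec n) : f (∑ x ∈ s, g x) = ∑ x ∈ s, f (g x) :=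
  _root_.map_sum (AddMonoidHom.mk' f (L.add f hf)) g s

theorem smul_z2 (c : ZMod 2) (w : Vec n) : c • w = if c = 1 then w else 0 := by
  rcases z2_cases c with rfl | rfl
  · rw [zero_smul, if_neg (by decide)]
  · rw [one_smul, if_pos rfl]

theorem Lin.map_smul {X : Set (Vec n → Vec n)} (L : Lin X) {f : Vec n → Vec n} (hf : f ∈ X) (c : ZMod 2)
    (w : Vec n) : f (c • w) = c • f w := by
  rcases z2_cases c with rfl | rfl
  · rw [zero_smul, zero_smul, L.map_zero hf]
  · rw [one_smul, one_smul]

/-- The inner product. -/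
def dot (u v : Vec n) : ZMod 2 := ∑ a, u a * v a

theorem dot_self (v : Vec n) : dot v v = par v :=
  Finset.sum_congr rfl fun a _ => by rcases z2_cases (v a) with h | h <;> simp [h]

theorem dot_add (u v w : Vec n) : dot u (v + w) = dot u v + dot u w := by
  simp only [dot, Pi.add_apply, mul_add, Finset.sum_add_distrib]

theorem dot_e (u : Vec n) (a : Blk n) : dot u (e a) = u a := by
  simp [dot, e_apply, Finset.sum_ite_eq']

theorem e_add_self (a b : Blk n) (h : a ≠ b) : (e a + e b) a = 1 := by
  simp [e_apply, h]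

theorem act_swap (a b : Blk n) (h : a ≠ b) (u : Vec n) :
    act (Equiv.swap a b) u = u + (u a + u b) • (e a + e b) := by
  funext c
  simp only [act_apply, Equiv.swap_inv, Pi.add_apply, Pi.smul_apply, smul_eq_mul, e_apply]
  by_cases h1 : c = a
  · subst h1; rw [Equiv.swap_apply_left, if_pos rfl, if_neg h]; linear_combination -(z2_add_self (u c))
  by_cases h2 : c = b
  · subst h2; rw [Equiv.swap_apply_right, if_neg h1, if_pos rfl]; linear_combination -(z2_add_self (u c))
  rw [Equiv.swap_apply_of_ne_of_ne h1 h2, if_neg h1, if_neg h2]; ring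

theorem sum_e (u : Vec n) : u = ∑ a, u a • e a := by
  funext b
  simp [Finset.sum_apply, e_apply]

/-- A transvection in `X`, with its centre and functional. -/
structure TV (X : Set (Vec n → Vec n)) (w : Vec n) (φ : Vec n → ZMod 2) : Prop where
  mem : (fun u => u + φ u • w) ∈ X
  add : ∀ u v, φ (u + v) = φ u + φ v
  self : φ w = 0
  ne : w ≠ 0
  nonzero : ∃ u, φ u ≠ 0

variable {X : Set (Vec n → Vec n)}

theorem TV.swap (L : Lin X) {a b : Blk n} (h : a ≠ b) : TV X (e a + e b) fun u => u a + u b where
  mem := by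
    convert L.perm (Equiv.swap a b) using 1
    funext u; exact (act_swap a b h u).symm
  add u v := by simp only [Pi.add_apply]; ring
  self := by
    simp only [Pi.add_apply, e_apply, if_neg h, if_neg (Ne.symm h), if_pos]; decide
  ne h0 := by
    have := congrFun h0 a
    rw [e_add_self a b h] at this
    exact one_ne_zero this
  nonzero := ⟨e a, by simp [e_apply, h.symm]⟩

theorem TV.conj (L : Lin X) {w : Vec n} {φ : Vec n → ZMod 2} (T : TV X w φ) {f g : Vec n → Vec n}
    (hf : f ∈ X) (hg : g ∈ X) (hgf : ∀ v, g (f v) = v) (hfg : ∀ v, f (g v) = v) :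
    TV X (f w) fun u => φ (g u) where
  mem := by
    convert L.comp _ hf _ (L.comp _ T.mem _ hg) using 1
    funext u
    rw [L.add f hf, L.map_smul hf, hfg]
  add u v := by rw [L.add g hg, T.add]
  self := by rw [hgf, T.self]
  ne h := T.ne (by rw [← hgf w, h, L.map_zero hg])
  nonzero := by obtain ⟨u, hu⟩ := T.nonzero; exact ⟨f u, by rwa [hgf]⟩

theorem TV.involutive {w : Vec n} {φ : Vec n → ZMod 2} (T : TV X w φ) (u : Vec n) :
    (u + φ u • w) + φ (u + φ u • w) • w = u := by
  have : φ (u + φ u • w) = φ u := by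
    rcases z2_cases (φ u) with h | h
    · rw [h, zero_smul, add_zero, h]
    · rw [h, one_smul, T.add, T.self, add_zero, h]
  rw [this, add_assoc, vec_add_self, add_zero]

theorem TV.map_e {w : Vec n} {φ : Vec n → ZMod 2} (T : TV X w φ) (u : Vec n) :
    φ u = ∑ a, u a * φ (e a) := by
  conv_lhs => rw [sum_e u]
  have : φ (∑ a, u a • e a) = ∑ a, φ (u a • e a) := _root_.map_sum (AddMonoidHom.mk' φ T.add) _ _
  rw [this]
  refine Finset.sum_congr rfl fun a _ => ?_
  rcases z2_cases (u a) with h | h
  · rw [h, zero_smul, zero_mul]; exact (AddMonoidHom.mk' φ T.add).map_zero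
  · rw [h, one_smul, one_mul]

/-- A transvection fixing the all-one vector is a transposition. -/
theorem TV.fix_one (L : Lin X) {w : Vec n} {φ : Vec n → ZMod 2} (T : TV X w φ) (h1 : φ 1 = 0) :
    ∃ a b, a ≠ b ∧ w = e a + e b ∧ ∀ u, φ u = u a + u b := by
  obtain ⟨p, hp⟩ := L.stab _ T.mem (by simp [h1])
  have hp' : ∀ u, u + φ u • w = act p u := fun u => congrFun hp u
  have hmove : ∀ c, p c ≠ c → w = e c + e (p c) := by
    intro c hc
    have h := hp' (e c)
    rw [act_e] at h
    rcases z2_cases (φ (e c)) with h0 | h0 <;> rw [h0] at h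
    · rw [zero_smul, add_zero] at h
      have := congrFun h c
      rw [e_apply, e_apply, if_pos rfl, if_neg (Ne.symm hc)] at this
      exact absurd this one_ne_zero
    · rw [one_smul] at h
      rw [← h, ← add_assoc, vec_add_self, zero_add]
  obtain ⟨a, ha⟩ : ∃ a, p a ≠ a := by
    by_contra hne
    push Not at hne
    obtain ⟨u, hu⟩ := T.nonzero
    have h := hp' u
    rw [Equiv.ext hne (g := (1 : Equiv.Perm (Blk n))), act_one, (z2_cases (φ u)).resolve_left hu,
      one_smul, add_eq_left] at h
    exact T.ne h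
  refine ⟨a, p a, Ne.symm ha, hmove a ha, fun u => ?_⟩
  have hpp : p (p a) = a := by
    have hne : p (p a) ≠ p a := fun h => ha (p.injective h)
    have h := congrFun ((hmove a ha).symm.trans (hmove (p a) hne)) a
    simp only [Pi.add_apply, e_apply, if_pos, if_neg (Ne.symm ha), add_zero, zero_add] at h
    by_contra h'
    rw [if_neg (Ne.symm h')] at h
    exact one_ne_zero h
  have h := congrFun (hp' u) a
  rw [Pi.add_apply, Pi.smul_apply, smul_eq_mul, hmove a ha, e_add_self _ _ (Ne.symm ha), mul_one, act_apply] at h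
  have hinv : p⁻¹ a = p a := by rw [Equiv.Perm.inv_def, Equiv.symm_apply_eq, hpp]
  rw [hinv] at h
  rw [← h, ← add_assoc, z2_add_self, zero_add]

/-- The shape of a transvection moving the all-one vector. -/
theorem TV.move_one (L : Lin X) {w : Vec n} {φ : Vec n → ZMod 2} (T : TV X w φ) (h1 : φ 1 = 1) :
    par w = 1 ∧ ∀ u, φ u = par u + dot w u := by
  have hconst : ∀ c d, w c = w d → φ (e c) = φ (e d) := by
    intro c d hw
    by_cases hcd : c = d
    · rw [hcd]
    have hfw : act (Equiv.swap c d) w = w := by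
      rw [act_swap c d hcd, hw, z2_add_self, zero_smul, add_zero]
    have hinv : ∀ v : Vec n, act (Equiv.swap c d) (act (Equiv.swap c d) v) = v := fun v => by
      rw [← act_mul, Equiv.swap_mul_self, act_one]
    have T' := T.conj L (L.perm (Equiv.swap c d)) (L.perm (Equiv.swap c d)) hinv hinv
    rw [hfw] at T'
    by_contra hne
    have hadd : φ (e c) + φ (e d) = 1 := by
      rcases z2_cases (φ (e c)) with h | h <;> rcases z2_cases (φ (e d)) with h' | h' <;>
        simp [h, h'] at hne ⊢
    have T'' : TV X w fun u => φ u + φ (act (Equiv.swap c d) u) := by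
      refine ⟨?_, fun u v => ?_, ?_, T.ne, ⟨e c, ?_⟩⟩
      · convert L.comp _ T.mem _ T'.mem using 1
        funext u
        have : φ (u + φ (act (Equiv.swap c d) u) • w) = φ u := by
          rcases z2_cases (φ (act (Equiv.swap c d) u)) with h | h
          · rw [h, zero_smul, add_zero]
          · rw [h, one_smul, T.add, T.self, add_zero]
        rw [this, add_smul]; abel
      · rw [T.add, act_add, T.add]; ring
      · rw [hfw, T.self, add_zero]
      · rw [act_e, Equiv.swap_apply_left, hadd]; exact one_ne_zero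
    obtain ⟨a, b, hab, hwab, hf⟩ := T''.fix_one L (by rw [act_one_vec, z2_add_self])
    have hc := hf (e c)
    rw [act_e, Equiv.swap_apply_left, hadd] at hc
    have hd := hf (e d)
    rw [act_e, Equiv.swap_apply_right, add_comm, hadd] at hd
    have hs : φ w = φ (e a) + φ (e b) := by rw [hwab, T.add]
    rw [T.self] at hs
    simp only [e_apply] at hc hd
    have hab' : (a = c ∧ b = d) ∨ (a = d ∧ b = c) := by
      by_cases h2 : a = c
      · subst h2
        rw [if_neg hcd, zero_add] at hd
        by_cases h3 : b = d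
        · exact Or.inl ⟨rfl, h3⟩
        · rw [if_neg h3] at hd; exact absurd hd one_ne_zero
      · rw [if_neg h2, zero_add] at hc
        by_cases h3 : b = c
        · subst h3
          rw [if_neg hcd, add_zero] at hd
          by_cases h4 : a = d
          · exact Or.inr ⟨h4, rfl⟩
          · rw [if_neg h4] at hd; exact absurd hd one_ne_zero
        · rw [if_neg h3] at hc; exact absurd hc one_ne_zero
    rcases hab' with ⟨rfl, rfl⟩ | ⟨rfl, rfl⟩
    · rw [hadd] at hs; exact zero_ne_one hs
    · rw [add_comm, hadd] at hs; exact zero_ne_one hs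
  obtain ⟨α, β, hαβ⟩ : ∃ α β : ZMod 2, ∀ c, φ (e c) = α + (α + β) * w c := by
    obtain ⟨b, hb⟩ : ∃ b, w b = 1 := by
      by_contra h
      push Not at h
      exact T.ne (funext fun a => (z2_cases (w a)).resolve_right (h a))
    by_cases hA : ∃ a, w a = 0
    · obtain ⟨a, ha⟩ := hA
      refine ⟨φ (e a), φ (e b), fun c => ?_⟩
      rcases z2_cases (w c) with h | h <;> rw [h]
      · rw [mul_zero, add_zero]; exact hconst c a (h.trans ha.symm)
      · rw [mul_one, ← add_assoc, z2_add_self, zero_add]; exact hconst c b (h.trans hb.symm)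
    · refine ⟨0, φ (e b), fun c => ?_⟩
      rcases z2_cases (w c) with h | h
      · exact absurd ⟨c, h⟩ hA
      · rw [h, mul_one, zero_add, zero_add]; exact hconst c b (h.trans hb.symm)
  have hφ : ∀ u, φ u = α * par u + (α + β) * dot w u := by
    intro u
    rw [T.map_e u, par, dot, Finset.mul_sum, Finset.mul_sum, ← Finset.sum_add_distrib]
    exact Finset.sum_congr rfl fun c _ => by rw [hαβ]; ring
  have hs := (hφ w).symm.trans T.self
  rw [dot_self, ← add_mul, ← add_assoc, z2_add_self, zero_add] at hs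
  have ho := (hφ 1).symm.trans h1
  rw [par_one, mul_zero, zero_add, show dot w 1 = par w from Finset.sum_congr rfl fun a _ => mul_one _] at ho
  have hw1 : par w = 1 := by
    rcases z2_cases (par w) with h | h
    · rw [h, mul_zero] at ho; exact absurd ho zero_ne_one
    · exact h
  rw [hw1, mul_one] at hs ho
  rw [hs, add_zero] at ho
  exact ⟨hw1, fun u => by rw [hφ, hs, add_zero, ho, one_mul, one_mul]⟩

/-- `w` is the centre of a transvection moving the all-one vector. -/
def Centre (X : Set (Vec n → Vec n)) (w : Vec n) : Prop := ∃ φ, TV X w φ ∧ φ 1 = 1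

theorem Centre.act (L : Lin X) {w : Vec n} (C : Centre X w) (p : Equiv.Perm (Blk n)) :
    Centre X (Kondo.act p w) := by
  obtain ⟨φ, T, h1⟩ := C
  exact ⟨_, T.conj L (L.perm p) (L.perm p⁻¹) (act_inv_act p)
    (fun v => by rw [← act_mul, mul_inv_cancel, act_one]), by rw [act_one_vec, h1]⟩

theorem Centre.pair (L : Lin X) {w w' : Vec n} (C : Centre X w) (C' : Centre X w') (hd : dot w w' = 0)
    (hne : w ≠ w') : ∃ a b, a ≠ b ∧ w + w' = e a + e b := by
  obtain ⟨φ, T, h1⟩ := C
  obtain ⟨φ', T', h1'⟩ := C'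
  obtain ⟨hw, hφ⟩ := T.move_one L h1
  obtain ⟨hw', hφ'⟩ := T'.move_one L h1'
  have T2 := T.conj L T'.mem T'.mem T'.involutive T'.involutive
  have hc : φ' w = 1 := by
    rw [hφ', hw, show dot w' w = dot w w' from Finset.sum_congr rfl fun a _ => mul_comm _ _, hd, add_zero]
  obtain ⟨a, b, hab, h, -⟩ := T2.fix_one L (by
    rw [h1', one_smul, T.add, h1, hφ w', hw', hd, add_zero, z2_add_self])
  rw [hc, one_smul] at h
  exact ⟨a, b, hab, h⟩

theorem exists_centre (L : Lin X) : ∃ w, Centre X w := by
  by_contra hne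
  obtain ⟨f, hf, v, hv⟩ := L.moves
  obtain ⟨g, hg, hgf, hfg⟩ := L.inv f hf
  have hfix : ∀ a b, a ≠ b → (g 1) a = (g 1) b := by
    intro a b hab
    have T := (TV.swap L hab).conj L hf hg hgf hfg
    rcases z2_cases ((g 1) a + (g 1) b) with h | h
    · exact ((add_eq_zero_iff_eq_neg.1 h).trans (ZMod.neg_eq_self_mod_two _))
    · exact absurd ⟨_, _, T, h⟩ hne
  let a0 : Blk n := (⟨0, L.npos⟩, 0)
  have hg1 : g 1 = fun _ => (g 1) a0 := funext fun b => by
    by_cases h : b = a0
    · rw [h]
    · exact hfix b a0 h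
  have hf1 : f 1 = 1 := by
    rcases z2_cases ((g 1) a0) with h | h
    · have h0 : g 1 = 0 := by rw [hg1, h]; rfl
      have h' := hfg 1
      rw [h0, L.map_zero hf] at h'
      exact absurd (congrFun h' a0) zero_ne_one
    · have h0 : g 1 = 1 := by rw [hg1, h]; rfl
      have h' := hfg 1
      rwa [h0] at h'
  obtain ⟨p, rfl⟩ := L.stab f hf hf1
  exact hv (par_act p v)

/-- The support of a vector. -/
def supp (v : Vec n) : Finset (Blk n) := Finset.univ.filter fun a => v a = 1

theorem mem_supp {v : Vec n} {a : Blk n} : a ∈ supp v ↔ v a = 1 := by simp [supp]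

theorem par_eq_card (v : Vec n) : par v = ((supp v).card : ZMod 2) := by
  rw [par, supp, Finset.natCast_card_filter]
  exact Finset.sum_congr rfl fun a _ => by rcases z2_cases (v a) with h | h <;> simp [h]

theorem not_mem_supp {v : Vec n} {a : Blk n} (h : a ∉ supp v) : v a = 0 :=
  (z2_cases _).resolve_right fun h' => h (mem_supp.2 h')

theorem card_blk : Fintype.card (Blk n) = 2 * n := by
  rw [Fintype.card_prod, Fintype.card_fin, Fintype.card_fin, mul_comm]

theorem eq_e_of_supp {v : Vec n} {a : Blk n} (h : supp v = {a}) : v = e a := by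
  funext b
  rw [e_apply]
  by_cases hb : b = a
  · rw [if_pos hb, ← mem_supp, h, hb]; exact Finset.mem_singleton_self a
  · rw [if_neg hb]; exact not_mem_supp (by rw [h, Finset.mem_singleton]; exact hb)

/-- A centre has one element in its support, or misses one block. -/
theorem Centre.card_supp (L : Lin X) {w : Vec n} (C : Centre X w) :
    (∃ a, w = e a) ∨ ∃ a, w = 1 + e a := by
  obtain ⟨φ, T, h1⟩ := C
  have hw : par w = 1 := (T.move_one L h1).1
  have C : Centre X w := ⟨φ, T, h1⟩
  have hodd : Odd (supp w).card := by rw [← ZMod.natCast_eq_one_iff_odd, ← par_eq_card]; exact hw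
  obtain ⟨k, hk⟩ := hodd
  have hle : (supp w).card ≤ 2 * n := card_blk (n := n) ▸ Finset.card_le_univ _
  by_cases hs1 : (supp w).card = 1
  · obtain ⟨a, ha⟩ := Finset.card_eq_one.1 hs1
    exact Or.inl ⟨a, eq_e_of_supp ha⟩
  have hcompl : (supp w)ᶜ.card = 2 * n - (supp w).card := by rw [Finset.card_compl, card_blk]
  by_cases hs2 : (supp w)ᶜ.card = 1
  · obtain ⟨a, ha⟩ := Finset.card_eq_one.1 hs2
    refine Or.inr ⟨a, ?_⟩
    have : w + 1 = e a := eq_e_of_supp (by
      rw [← ha]; ext b
      rw [mem_supp, Finset.mem_compl, mem_supp, Pi.add_apply, Pi.one_apply]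
      rcases z2_cases (w b) with h | h <;> simp [h, z2_add_self])
    rw [← this, add_comm w, ← add_assoc, vec_add_self, zero_add]
  exfalso
  have h3 : 3 ≤ (supp w).card := by omega
  have h3' : 3 ≤ (supp w)ᶜ.card := by omega
  obtain ⟨P, hP, hPc⟩ := Finset.exists_subset_card_eq h3
  obtain ⟨Q, hQ, hQc⟩ := Finset.exists_subset_card_eq h3'
  obtain ⟨a1, a2, a3, h12, h13, h23, rfl⟩ := Finset.card_eq_three.1 hPc
  obtain ⟨c1, c2, c3, g12, g13, g23, rfl⟩ := Finset.card_eq_three.1 hQc
  simp only [Finset.insert_subset_iff, Finset.singleton_subset_iff, Finset.mem_compl, mem_supp] at hP hQ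
  obtain ⟨p1, p2, p3⟩ := hP
  obtain ⟨q1, q2, q3⟩ := hQ
  replace q1 := (z2_cases _).resolve_right q1
  replace q2 := (z2_cases _).resolve_right q2
  replace q3 := (z2_cases _).resolve_right q3
  have ne : ∀ {a c : Blk n}, w a = 1 → w c = 0 → a ≠ c := fun h h' he => zero_ne_one (h' ▸ he ▸ h)
  set w' := Kondo.act (Equiv.swap a1 c1) (Kondo.act (Equiv.swap a2 c2) (Kondo.act (Equiv.swap a3 c3) w)) with hw'
  have C' : Centre X w' := ((C.act L _).act L _).act L _
  have e3 : Kondo.act (Equiv.swap a3 c3) w = w + (e a3 + e c3) := by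
    rw [act_swap _ _ (ne p3 q3), p3, q3, add_zero, one_smul]
  have e2 : Kondo.act (Equiv.swap a2 c2) (w + (e a3 + e c3)) = w + (e a3 + e c3) + (e a2 + e c2) := by
    rw [act_swap _ _ (ne p2 q2)]
    simp [e_apply, p2, q2, h23, g23, ne p2 q3, (ne p3 q2).symm]
  have e1 : w' = w + (e a3 + e c3) + (e a2 + e c2) + (e a1 + e c1) := by
    rw [hw', e3, e2, act_swap _ _ (ne p1 q1)]
    simp [e_apply, p1, q1, h12, h13, g12, g13, ne p1 q2, ne p1 q3, (ne p2 q1).symm, (ne p3 q1).symm]
  have hd : dot w w' = 0 := by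
    rw [e1]
    simp only [dot_add, dot_self, dot_e, hw, p1, p2, p3, q1, q2, q3]
    decide
  have hne : w ≠ w' := fun h => by
    have := congrFun h a1
    rw [e1] at this
    simp [e_apply, p1, h12, h13, ne p1 q1, ne p1 q2, ne p1 q3] at this
  obtain ⟨a, b, -, hab⟩ := C.pair L C' hd hne
  rw [e1] at hab
  simp only [← add_assoc, vec_add_self, zero_add] at hab
  have v1 := congrFun hab a1
  have v2 := congrFun hab a2
  have v3 := congrFun hab a3
  simp [e_apply, h12, h13, h23, h12.symm, h13.symm, h23.symm, ne p1 q1, ne p1 q2, ne p1 q3, ne p2 q1,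
    ne p2 q2, ne p2 q3, ne p3 q1, ne p3 q2, ne p3 q3] at v1 v2 v3
  have o : ∀ x, (1 : ZMod 2) = (if x = a then 1 else 0) + (if x = b then 1 else 0) → x = a ∨ x = b :=
    fun x hx => by
      by_contra hh
      push Not at hh
      rw [if_neg hh.1, if_neg hh.2, add_zero] at hx
      exact one_ne_zero hx
  rcases o a1 v1 with r1 | r1 <;> rcases o a2 v2 with r2 | r2 <;> rcases o a3 v3 with r3 | r3
  all_goals first
    | exact h12 (r1.trans r2.symm)
    | exact h13 (r1.trans r3.symm)
    | exact h23 (r2.trans r3.symm)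

/-- All centres have the same shape. -/
theorem centres_alike (L : Lin X) :
    (∀ a, Centre X (e a)) ∧ (∀ w, Centre X w → ∃ a, w = e a) ∨
      (∀ a, Centre X (1 + e a)) ∧ (∀ w, Centre X w → ∃ a, w = 1 + e a) := by
  have all1 : ∀ a b, Centre X (e a) → Centre X (e b) := fun a b C => by
    simpa [act_e] using C.act L (Equiv.swap a b)
  have all2 : ∀ a b, Centre X (1 + e a) → Centre X (1 + e b) := fun a b C => by
    have := C.act L (Equiv.swap a b)
    rwa [act_add, act_one_vec, act_e, Equiv.swap_apply_left] at this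
  obtain ⟨w, C⟩ := exists_centre L
  rcases C.card_supp L with ⟨a, rfl⟩ | ⟨a, rfl⟩
  · refine Or.inl ⟨fun b => all1 a b C, fun w' C' => ?_⟩
    rcases C'.card_supp L with h | ⟨b, rfl⟩
    · exact h
    by_cases heq : e b = 1 + e b
    · exact ⟨b, heq.symm⟩
    obtain ⟨x, y, hxy, h⟩ := (all1 a b C).pair L C' (by
      rw [dot_add, dot_e, e_apply, if_pos rfl,
        show dot (e b) 1 = par (e b) from Finset.sum_congr rfl fun _ _ => mul_one _, par_e, z2_add_self]) heq
    rw [add_left_comm, vec_add_self, add_zero] at h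
    -- two blocks only
    refine ⟨if b = x then y else x, ?_⟩
    funext z
    have hz := congrFun h z
    have hb := congrFun h b
    simp only [Pi.one_apply, Pi.add_apply, e_apply] at hz hb ⊢
    by_cases hbx : b = x
    · subst hbx
      rw [if_pos rfl]
      rw [hz]
      by_cases h1 : z = b
      · subst h1; simp [hxy]; decide
      · simp [h1]
    · rw [if_neg hbx] at hb
      rw [zero_add] at hb
      by_cases hby : b = y
      · subst hby
        rw [if_neg hbx, hz]
        by_cases h1 : z = b
        · subst h1; simp [hbx]; decide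
        · simp [h1]
      · rw [if_neg hby] at hb
        exact absurd hb one_ne_zero
  · refine Or.inr ⟨fun b => all2 a b C, fun w' C' => ?_⟩
    rcases C'.card_supp L with ⟨b, rfl⟩ | h
    · by_cases heq : e b = 1 + e b
      · exact ⟨b, heq⟩
      obtain ⟨x, y, hxy, h⟩ := C'.pair L (all2 a b C) (by
        rw [dot_add, dot_e, e_apply, if_pos rfl,
          show dot (e b) 1 = par (e b) from Finset.sum_congr rfl fun _ _ => mul_one _, par_e, z2_add_self]) heq
      rw [add_left_comm, vec_add_self, add_zero] at h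
      refine ⟨if b = x then y else x, ?_⟩
      rw [h]
      have hb := congrFun h b
      simp only [Pi.one_apply, Pi.add_apply, e_apply] at hb
      by_cases hbx : b = x
      · subst hbx; rw [if_pos rfl, add_assoc, vec_add_self, add_zero]
      · rw [if_neg hbx, zero_add] at hb
        by_cases hby : b = y
        · subst hby; rw [if_neg hbx, add_right_comm, vec_add_self, zero_add]
        · rw [if_neg hby] at hb; exact absurd hb one_ne_zero
    · exact h

/-- The orbit of the all-one vector. -/
theorem orbit_one (L : Lin X) (hall : ∀ a, Centre X (e a)) (honly : ∀ w, Centre X w → ∃ a, w = e a)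
    {f : Vec n → Vec n} (hf : f ∈ X) : f 1 = 1 ∨ ∃ a, f 1 = 1 + e a := by
  by_contra hne
  push Not at hne
  obtain ⟨hne1, hne2⟩ := hne
  obtain ⟨g, hg, hgf, hfg⟩ := L.inv f hf
  have shape : ∀ w φ, TV X w φ → φ 1 = 1 → ∃ a, w = e a ∧ ∀ u, φ u = par u + u a := fun w φ T h1 => by
    obtain ⟨a, rfl⟩ := honly w ⟨φ, T, h1⟩
    exact ⟨a, rfl, fun u => by
      rw [(T.move_one L h1).2, show dot (e a) u = dot u (e a) from Finset.sum_congr rfl fun _ _ => mul_comm _ _,
        dot_e]⟩
  -- no two different commuting transvections move a vector of the orbit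
  have key : ∀ w φ w' φ', TV X w φ → TV X w' φ' → φ (f 1) = 1 → φ' (f 1) = 1 → φ w' = 0 → φ' w = 0 →
      w ≠ w' → False := by
    intro w φ w' φ' T T' h1 h1' hc hc' hww
    obtain ⟨a, ha, hφ⟩ := shape _ _ (T.conj L hg hf hfg hgf) h1
    obtain ⟨b, hb, hφ'⟩ := shape _ _ (T'.conj L hg hf hfg hgf) h1'
    have hab : a ≠ b := fun h => hww (by rw [← hfg w, ← hfg w', ha, hb, h])
    have := hφ (g w')
    rw [hfg, hc, hb, par_e, e_apply, if_neg hab, add_zero] at this
    exact zero_ne_one this
  have hu0 : f 1 ≠ 0 := fun h => by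
    have h' := hgf 1
    rw [h, L.map_zero hg] at h'
    exact zero_ne_one (congrFun h' (⟨0, L.npos⟩, 0))
  set u := f 1 with hu
  have hc1 : (supp u)ᶜ.card ≠ 0 := fun h => hne1 (funext fun a => by
    rw [Finset.card_eq_zero, Finset.compl_eq_empty_iff] at h
    exact mem_supp.1 (h ▸ Finset.mem_univ a))
  have hc2 : (supp u)ᶜ.card ≠ 1 := fun h => by
    obtain ⟨a, ha⟩ := Finset.card_eq_one.1 h
    refine hne2 a ?_
    funext b
    rw [Pi.add_apply, Pi.one_apply, e_apply]
    by_cases hb : b = a
    · rw [if_pos hb, z2_add_self]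
      exact not_mem_supp (Finset.mem_compl.1 (by rw [ha, hb]; exact Finset.mem_singleton_self a))
    · rw [if_neg hb, add_zero]
      by_contra hh
      exact hb (Finset.mem_singleton.1 (ha ▸ Finset.mem_compl.2 fun hm => hh (mem_supp.1 hm)))
  obtain ⟨b1, hb1, b2, hb2, hb12⟩ := Finset.one_lt_card.1 (show 1 < (supp u)ᶜ.card by omega)
  replace hb1 := not_mem_supp (Finset.mem_compl.1 hb1)
  replace hb2 := not_mem_supp (Finset.mem_compl.1 hb2)
  have hs0 : (supp u).card ≠ 0 := fun h => hu0 (funext fun a => not_mem_supp (by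
    rw [Finset.card_eq_zero] at h; rw [h]; exact Finset.notMem_empty a))
  have ne : ∀ {a c : Blk n}, u a = 1 → u c = 0 → a ≠ c := fun h h' he => zero_ne_one (h' ▸ he ▸ h)
  by_cases hs : (supp u).card = 1
  · obtain ⟨c, hc⟩ := Finset.card_eq_one.1 hs
    have huc : u = e c := eq_e_of_supp hc
    have hcu : u c = 1 := by rw [huc, e_apply, if_pos rfl]
    obtain ⟨φ, T, h1⟩ := hall b2
    have hφ := (T.move_one L h1).2
    refine key _ _ _ φ (TV.swap L (ne hcu hb1)) T (by simp [hcu, hb1]) ?_ ?_ ?_ ?_
    · rw [hφ, huc, par_e, dot_e, e_apply, if_neg (ne hcu hb2), add_zero]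
    · simp [e_apply, ne hcu hb2, hb12]
    · rw [hφ, par_add, par_e, par_e, dot_add, dot_e, dot_e, e_apply, if_neg (ne hcu hb2), e_apply,
        if_neg hb12]
      decide
    · intro h
      have := congrFun h c
      rw [e_add_self _ _ (ne hcu hb1), e_apply, if_neg (ne hcu hb2)] at this
      exact one_ne_zero this
  · obtain ⟨a1, ha1, a2, ha2, ha12⟩ := Finset.one_lt_card.1 (show 1 < (supp u).card by omega)
    replace ha1 := mem_supp.1 ha1
    replace ha2 := mem_supp.1 ha2
    refine key _ _ _ _ (TV.swap L (ne ha1 hb1)) (TV.swap L (ne ha2 hb2)) (by simp [ha1, hb1])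
      (by simp [ha2, hb2]) ?_ ?_ ?_
    · simp [e_apply, ha12, ne ha1 hb2, (ne ha2 hb1).symm, hb12]
    · simp [e_apply, ha12.symm, ne ha2 hb1, (ne ha1 hb2).symm, hb12.symm]
    · intro h
      have := congrFun h a1
      rw [e_add_self _ _ (ne ha1 hb1)] at this
      simp [e_apply, ha12, ne ha1 hb2] at this

/-- The transvections realise the whole orbit. -/
theorem exists_map_one (L : Lin X) (hall : ∀ a, Centre X (e a)) (a : Blk n) :
    ∃ f ∈ X, f 1 = 1 + e a := by
  obtain ⟨φ, T, h1⟩ := hall a
  exact ⟨_, T.mem, by simp [h1]⟩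

/-- The change of labels. -/
def twist (v : Vec n) : Vec n := v + par v • 1

theorem twist_add (u v : Vec n) : twist (u + v) = twist u + twist v := by
  rw [twist, twist, twist, par_add, add_smul]; abel

theorem twist_twist (v : Vec n) : twist (twist v) = v := by
  rw [twist, twist]
  have : par (v + par v • 1) = par v := by
    rcases z2_cases (par v) with h | h <;> simp [h, par_add, par_one]
  rw [this, add_assoc, vec_add_self, add_zero]

theorem par_twist (v : Vec n) : par (twist v) = par v := by
  rw [twist]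
  rcases z2_cases (par v) with h | h <;> simp [h, par_add, par_one]

theorem twist_one : twist (1 : Vec n) = 1 := by
  rw [twist, par_one, zero_smul, add_zero]

theorem twist_act (p : Equiv.Perm (Blk n)) (v : Vec n) : twist (act p v) = act p (twist v) := by
  rw [twist, twist, par_act, act_add]
  congr 1

/-- The set in the new labels. -/
def twistSet (X : Set (Vec n → Vec n)) : Set (Vec n → Vec n) :=
  {h | (fun v => twist (h (twist v))) ∈ X}

theorem Lin.twist (L : Lin X) : Lin (twistSet X) where
  npos := L.npos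
  add f hf u v := by
    have h := L.add _ hf (Kondo.twist u) (Kondo.twist v)
    simp only [← twist_add, twist_twist] at h
    have h' := congrArg Kondo.twist h
    rwa [twist_twist, twist_twist] at h'
  comp f hf g hg := by
    show (fun v => Kondo.twist (f (g (Kondo.twist v)))) ∈ X
    convert L.comp _ hf _ hg using 1
    funext v; rw [twist_twist]
  inv f hf := by
    obtain ⟨g, hg, h1, h2⟩ := L.inv _ hf
    refine ⟨fun v => Kondo.twist (g (Kondo.twist v)), ?_, fun v => ?_, fun v => ?_⟩
    · show (fun v => Kondo.twist (Kondo.twist (g (Kondo.twist (Kondo.twist v))))) ∈ X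
      convert hg using 1
      funext v; rw [twist_twist, twist_twist]
    · have := congrArg Kondo.twist (h1 (Kondo.twist v))
      simpa only [twist_twist] using this
    · have := congrArg Kondo.twist (h2 (Kondo.twist v))
      simpa only [twist_twist] using this
  perm p := by
    show (fun v => Kondo.twist (act p (Kondo.twist v))) ∈ X
    convert L.perm p using 1
    funext v; rw [twist_act, twist_twist]
  stab f hf h1 := by
    obtain ⟨p, hp⟩ := L.stab _ hf (by simp [twist_one, h1])
    refine ⟨p, funext fun v => ?_⟩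
    have := congrArg Kondo.twist (congrFun hp (Kondo.twist v))
    simpa only [twist_twist, twist_act] using this
  moves := by
    obtain ⟨f, hf, v, hv⟩ := L.moves
    refine ⟨fun u => Kondo.twist (f (Kondo.twist u)), ?_, Kondo.twist v, ?_⟩
    · show (fun v => Kondo.twist (Kondo.twist (f (Kondo.twist (Kondo.twist v))))) ∈ X
      convert hf using 1
      funext v; rw [twist_twist, twist_twist]
    · simpa [par_twist, twist_twist] using hv

theorem Centre.twist {w : Vec n} (C : Centre X w) : Centre (twistSet X) (Kondo.twist w) := by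
  obtain ⟨φ, T, h1⟩ := C
  refine ⟨fun u => φ (Kondo.twist u), ⟨?_, fun u v => by rw [twist_add, T.add], by rw [twist_twist, T.self],
    fun h => T.ne (by rw [← twist_twist w, h]; simp [Kondo.twist, par]), ?_⟩, by simp only [twist_one, h1]⟩
  · show (fun v => Kondo.twist (Kondo.twist v + φ (Kondo.twist (Kondo.twist v)) • Kondo.twist w)) ∈ X
    convert T.mem using 1
    funext v
    rcases z2_cases (φ v) with h | h <;> simp [twist_twist, twist_add, h]
  · obtain ⟨u, hu⟩ := T.nonzero
    exact ⟨Kondo.twist u, by rwa [twist_twist]⟩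

theorem twist_one_add_e (a : Blk n) : twist (1 + e a) = e a := by
  rw [twist, par_add, par_one, par_e, zero_add, one_smul, add_comm (1 : Vec n), add_assoc, vec_add_self,
    add_zero]

/-- Up to a change of labels the orbit is `1` and the vectors with one zero. -/
theorem orbit_or_twist (L : Lin X) :
    ((∀ f ∈ X, f 1 = 1 ∨ ∃ a, f 1 = 1 + e a) ∧ ∀ a, ∃ f ∈ X, f 1 = 1 + e a) ∨
      ((∀ f ∈ twistSet X, f 1 = 1 ∨ ∃ a, f 1 = 1 + e a) ∧ ∀ a, ∃ f ∈ twistSet X, f 1 = 1 + e a) := by
  rcases centres_alike L with ⟨h, h'⟩ | ⟨h, h'⟩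
  · exact Or.inl ⟨fun _ hf => orbit_one L h h' hf, exists_map_one L h⟩
  · have hall : ∀ a, Centre (twistSet X) (e a) := fun a => twist_one_add_e a ▸ (h a).twist
    have honly : ∀ w, Centre (twistSet X) w → ∃ a, w = e a := by
      intro w C
      have C' := C.twist
      have hX : twistSet (twistSet X) = X := by
        ext f
        show (fun v => Kondo.twist (Kondo.twist (f (Kondo.twist (Kondo.twist v))))) ∈ X ↔ f ∈ X
        simp only [twist_twist]
      rw [hX] at C'
      obtain ⟨a, ha⟩ := h' _ C'
      exact ⟨a, by rw [← twist_twist w, ha, twist_one_add_e]⟩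
    exact Or.inr ⟨fun _ hf => orbit_one L.twist hall honly hf, exists_map_one L.twist hall⟩

end Cfsg.Agent.Lib.Inv59.Kondo
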