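import Cfsg.Agent.Lib.Inv59.Kondo.Config

/-!
# Every involution is conjugate into the base group
-/

set_option autoImplicit false
set_option linter.style.haveILetI false
set_option linter.unusedSectionVars false

namespace Cfsg.Agent.Lib.Inv59.Kondo

open Subgroup

universe u

namespace Cfg

variable {G : Type u} [Group G] [Finite G] {n : ℕ} (C : Cfg G n)

/-- The first pair. -/
def k0 : Fin n := ⟨0, C.hn⟩
/-- Its first block. -/
def a0 : Blk n := (C.k0, 0)
/-- Its second block. -/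
def b0 : Blk n := (C.k0, 1)
/-- The swap of the first pair. -/
def s : G := C.ι (W.prm (pswap C.k0))
/-- Both flips of the first pair. -/
def z : G := C.ιv (e C.a0 + e C.b0)
/-- One flip of the first pair. -/
def e1 : G := C.ιv (e C.a0)
/-- The elementary abelian subgroup of the swap. -/
def A : Subgroup G := C.EG {C.k0}

/-- The common part of `A` and the base group. -/
def H0 (x : G) : Prop := ∃ v : Vec n, v C.a0 = v C.b0 ∧ C.ιv v = x

omit [Finite G] in
theorem ab : C.a0 ≠ C.b0 := fun h => zero_ne_one (congrArg Prod.snd h : (0 : Fin 2) = 1)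

omit [Finite G] in
theorem mate_a0 : mate C.a0 = C.b0 := Prod.ext rfl (show (1 : Fin 2) - 0 = 1 from sub_zero 1)

omit [Finite G] in
theorem mate_b0 : mate C.b0 = C.a0 := Prod.ext rfl (show (1 : Fin 2) - 1 = 0 from sub_self 1)

omit [Finite G] in
theorem fst_cases {a : Blk n} (h : a.1 = C.k0) : a = C.a0 ∨ a = C.b0 := by
  obtain ⟨k, j⟩ := a
  obtain rfl : k = C.k0 := h
  fin_cases j
  · exact Or.inl rfl
  · exact Or.inr rfl

omit [Finite G] in
theorem pswap_off {a : Blk n} (ha : a ≠ C.a0) (hb : a ≠ C.b0) : pswap C.k0 a = a :=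
  Equiv.swap_apply_of_ne_of_ne ha hb

omit [Finite G] in
theorem act_pswap_eq {v : Vec n} (h : v C.a0 = v C.b0) : act (pswap C.k0) v = v := by
  rw [show pswap C.k0 = Equiv.swap C.a0 C.b0 from rfl, act_swap _ _ C.ab, h, z2_add_self, zero_smul, add_zero]

omit [Finite G] in
theorem s_mul_self : C.s * C.s = 1 := by
  rw [s, ← map_mul, show W.prm (pswap C.k0) * W.prm (pswap C.k0) = (1 : W n) from
    W.ext (by simp) (by simp [pswap]), map_one]

omit [Finite G] in
theorem s_comm {v : Vec n} (h : v C.a0 = v C.b0) : C.s * C.ιv v = C.ιv v * C.s := by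
  rw [← mul_inv_eq_iff_eq_mul, s, C.conj_ιv, W.prm_p, C.act_pswap_eq h]

omit [Finite G] in
theorem mem_A {x : G} : x ∈ C.A ↔ ∃ v : Vec n, v C.a0 = v C.b0 ∧ (C.ιv v = x ∨ C.ιv v * C.s = x) := by
  constructor
  · rintro ⟨w, ⟨hw, hwv⟩, rfl⟩
    refine ⟨w.v, C.mate_a0 ▸ (hwv C.a0 (Finset.mem_singleton_self _)).symm, ?_⟩
    by_cases h : w.p C.a0 = C.a0
    · left
      have : w.p = 1 := Equiv.ext fun a => by
        rcases hw a with h' | ⟨ha, h'⟩
        · exact h'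
        · rcases C.fst_cases (Finset.mem_singleton.1 ha) with rfl | rfl
          · exact h
          · exfalso
            rw [C.mate_b0] at h'
            exact C.ab (w.p.injective (h.trans h'.symm))
      rw [ιv, ← W.eq_vec_of_p w this]
    · right
      have h0 : w.p C.a0 = C.b0 := by
        rcases hw C.a0 with h' | ⟨-, h'⟩
        · exact absurd h' h
        · exact h'.trans C.mate_a0
      have : w.p = pswap C.k0 := Equiv.ext fun a => by
        by_cases h1 : a = C.a0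
        · subst h1; rw [h0]; exact (Equiv.swap_apply_left _ _).symm
        by_cases h2 : a = C.b0
        · subst h2
          refine Eq.trans ?_ (Equiv.swap_apply_right _ _).symm
          rcases hw C.b0 with h' | ⟨-, h'⟩
          · exact absurd (w.p.injective (h0.trans h'.symm)) C.ab
          · exact h'.trans C.mate_b0
        · rw [C.pswap_off h1 h2]
          rcases hw a with h' | ⟨ha, -⟩
          · exact h'
          · rcases C.fst_cases (Finset.mem_singleton.1 ha) with h | h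
            · exact absurd h h1
            · exact absurd h h2
      rw [ιv, s, ← map_mul]; congr 1
      exact W.ext (by simp) (by simp [this])
  · rintro ⟨v, hv, h⟩
    have hv' : ∀ a : Blk n, a.1 ∈ ({C.k0} : Finset (Fin n)) → v (mate a) = v a := fun a ha => by
      rcases C.fst_cases (Finset.mem_singleton.1 ha) with rfl | rfl
      · rw [C.mate_a0]; exact hv.symm
      · rw [C.mate_b0]; exact hv
    have m1 : C.ιv v ∈ C.A := ⟨_, ⟨fun _ => Or.inl rfl, hv'⟩, rfl⟩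
    have m2 : C.s ∈ C.A := ⟨_, ⟨fun a => by
      rw [W.prm_p, pswap_apply]
      split_ifs with h
      · exact Or.inr ⟨Finset.mem_singleton.2 h, rfl⟩
      · exact Or.inl rfl, fun _ _ => rfl⟩, rfl⟩
    rcases h with rfl | rfl
    · exact m1
    · exact C.A.mul_mem m1 m2

omit [Finite G] in
theorem H0_mem_A {x : G} (h : C.H0 x) : x ∈ C.A := C.mem_A.2 (by obtain ⟨v, hv, h⟩ := h; exact ⟨v, hv, Or.inl h⟩)

omit [Finite G] in
theorem s_mem_A : C.s ∈ C.A := C.mem_A.2 ⟨0, rfl, Or.inr (by rw [C.ιv_zero, one_mul])⟩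

omit [Finite G] in
theorem A_comm {x y : G} (hx : x ∈ C.A) (hy : y ∈ C.A) : x * y = y * x := by
  have h := C.EG_mul_self (C.A.mul_mem hx hy)
  calc x * y = (x * y)⁻¹ := (inv_eq_of_mul_eq_one_right h).symm
    _ = y⁻¹ * x⁻¹ := mul_inv_rev x y
    _ = y * x := by rw [inv_eq_of_mul_eq_one_right (C.EG_mul_self hx), inv_eq_of_mul_eq_one_right (C.EG_mul_self hy)]

omit [Finite G] in
theorem A_inv {x : G} (hx : x ∈ C.A) : x⁻¹ = x := inv_eq_of_mul_eq_one_right (C.EG_mul_self hx)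

omit [Finite G] in
theorem H0_mul {x y : G} (hx : C.H0 x) (hy : C.H0 y) : C.H0 (x * y) := by
  obtain ⟨u, hu, rfl⟩ := hx
  obtain ⟨v, hv, rfl⟩ := hy
  exact ⟨u + v, by simp [hu, hv], C.ιv_add u v⟩

omit [Finite G] in
theorem not_H0_of {v : Vec n} : ¬ C.H0 (C.ιv v * C.s) := by
  rintro ⟨u, -, h⟩
  have := congrArg W.p (C.inj ((h.trans (by rw [ιv, s, ← map_mul])) : C.ι (W.vec u) = C.ι (W.vec v * W.prm (pswap C.k0))))
  simp only [W.vec_p, W.mul_p, W.prm_p, one_mul] at this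
  have h2 := congrArg (fun q : Equiv.Perm (Blk n) => q C.a0) this
  exact C.ab (h2.trans (Equiv.swap_apply_left _ _))

omit [Finite G] in
theorem not_H0_s : ¬ C.H0 C.s := by
  have := C.not_H0_of (v := 0)
  rwa [C.ιv_zero, one_mul] at this

omit [Finite G] in
theorem A_cases {x : G} (hx : x ∈ C.A) : C.H0 x ∨ ∃ v : Vec n, v C.a0 = v C.b0 ∧ x = C.ιv v * C.s := by
  obtain ⟨v, hv, h | h⟩ := C.mem_A.1 hx
  · exact Or.inl ⟨v, hv, h⟩
  · exact Or.inr ⟨v, hv, h.symm⟩

omit [Finite G] in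
theorem H0_of_mul {x y : G} (hx : x ∈ C.A) (hy : y ∈ C.A) (hx' : ¬ C.H0 x) (hy' : ¬ C.H0 y) :
    C.H0 (x * y) := by
  obtain ⟨u, hu, rfl⟩ := (C.A_cases hx).resolve_left hx'
  obtain ⟨v, hv, rfl⟩ := (C.A_cases hy).resolve_left hy'
  refine ⟨u + v, by simp [hu, hv], ?_⟩
  rw [C.ιv_add, show C.ιv u * C.s * (C.ιv v * C.s) = C.ιv u * (C.s * C.ιv v) * C.s by group, C.s_comm hv,
    show C.ιv u * (C.ιv v * C.s) * C.s = C.ιv u * C.ιv v * (C.s * C.s) by group, C.s_mul_self, mul_one]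

omit [Finite G] in
theorem z_H0 : C.H0 C.z := ⟨_, by simp [e_apply, C.ab, C.ab.symm], rfl⟩

omit [Finite G] in
theorem e1_H0 {x : G} (hx : C.H0 x) : C.e1 * x * C.e1 = x := by
  obtain ⟨v, -, rfl⟩ := hx
  rw [e1, ← C.ιv_add, ← C.ιv_add, add_comm (e C.a0), add_assoc, vec_add_self, add_zero]

omit [Finite G] in
theorem e1_s : C.e1 * C.s * C.e1 = C.s * C.z := by
  have hinv : C.s⁻¹ = C.s := inv_eq_of_mul_eq_one_right C.s_mul_self
  have h : C.s * C.ιv (e C.a0) * C.s⁻¹ = C.ιv (e C.b0) := by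
    rw [s, C.conj_ιv, W.prm_p, act_e]
    exact congrArg _ (congrArg e (Equiv.swap_apply_left _ _))
  have h' : C.e1 * C.s = C.s * C.ιv (e C.b0) := by
    rw [← h, hinv, ← mul_assoc, ← mul_assoc, C.s_mul_self, one_mul, e1]
  rw [h', mul_assoc, e1, ← C.ιv_add, z, add_comm]

omit [Finite G] in
theorem e1_mul_self : C.e1 * C.e1 = 1 := C.ιv_mul_self _

omit [Finite G] in
theorem e1_off {x : G} (hx : x ∈ C.A) (hx' : ¬ C.H0 x) : C.e1 * x * C.e1 = x * C.z := by
  obtain ⟨v, hv, rfl⟩ := (C.A_cases hx).resolve_left hx'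
  calc C.e1 * (C.ιv v * C.s) * C.e1 = (C.e1 * C.ιv v * C.e1) * (C.e1⁻¹ * C.s * C.e1) := by group
    _ = C.ιv v * (C.e1 * C.s * C.e1) := by
        rw [C.e1_H0 ⟨v, hv, rfl⟩, inv_eq_of_mul_eq_one_right C.e1_mul_self]
    _ = C.ιv v * C.s * C.z := by rw [C.e1_s, mul_assoc]

/-- Commuting elements of the centraliser of `t`. -/
theorem comm_decomp {w u : W n} {k : G} (hk : k ∈ C.K) (h : C.ι w * k * C.ι u = C.ι u * (C.ι w * k)) :
    w * u = u * w ∧ C.ι u * k = k * C.ι u := by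
  have hk' : (C.ι u)⁻¹ * k * C.ι u ∈ C.K := by
    have := C.Kconj u⁻¹ k hk
    rwa [map_inv, inv_inv] at this
  obtain ⟨h1, h2⟩ := C.decomp_unique (w := w * u) (w' := u * w) hk' hk (by rw [map_mul, map_mul, mul_assoc (C.ι u)]; rw [← h]; group)
  refine ⟨h1, ?_⟩
  conv_rhs => rw [show k * C.ι u = C.ι u * ((C.ι u)⁻¹ * k * C.ι u) by group, h2]

omit [Finite G] in
theorem t_H0 : C.H0 C.t := ⟨1, rfl, rfl⟩

omit [Finite G] in
theorem e_H0 {a : Blk n} (ha : a.1 ≠ C.k0) : C.H0 (C.ιv (e a)) := by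
  refine ⟨e a, ?_, rfl⟩
  rw [e_apply, e_apply, if_neg (fun h => ha (by rw [← h]; rfl)), if_neg (fun h => ha (by rw [← h]; rfl))]

theorem comm_H0 (h2 : 2 ≤ n) {x : G} (hx : ∀ y, C.H0 y → x * y = y * x) :
    ∃ w ∈ pairGroup n, x = C.ι w ∧ ∀ a : Blk n, a.1 ≠ C.k0 → w.p a = a := by
  obtain ⟨w, k, hk, rfl⟩ := C.cent x (hx _ C.t_H0)
  have hfix : ∀ a : Blk n, a.1 ≠ C.k0 → w.p a = a := by
    intro a ha
    have h := (W.commute_vec_iff w _).1 (C.comm_decomp hk (hx _ (C.e_H0 ha))).1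
    rw [act_e] at h
    have h' := congrFun h (w.p a)
    rw [e_apply, e_apply, if_pos rfl] at h'
    by_contra hne
    rw [if_neg hne] at h'
    exact one_ne_zero h'
  obtain ⟨l, hl⟩ : ∃ l : Fin n, l ≠ C.k0 := ⟨⟨1, h2⟩, fun h => absurd (congrArg Fin.val h) (by simp [k0])⟩
  have hk1 : k = 1 :=
    C.Kfree (W.vec (e (l, 0))) (par_e _) k hk (C.comm_decomp hk (hx _ (C.e_H0 (a := (l, 0)) hl))).2
  refine ⟨w, fun a => ?_, by rw [hk1, mul_one], hfix⟩
  by_cases ha : a.1 = C.k0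
  · rw [ha]
    by_contra hne
    have h1 := hfix _ hne
    exact hne (by rw [w.p.injective h1]; exact ha)
  · rw [hfix a ha]

theorem comm_H0_s (h2 : 2 ≤ n) {x : G} (hx : ∀ y, C.H0 y → x * y = y * x) :
    x * C.s * x⁻¹ = C.s ∨ x * C.s * x⁻¹ = C.s * C.z := by
  obtain ⟨w, hwJ, rfl, hfix⟩ := C.comm_H0 h2 hx
  have hp : w.p * pswap C.k0 = pswap C.k0 * w.p := Equiv.ext fun a => by
    rw [Equiv.Perm.mul_apply, Equiv.Perm.mul_apply]
    by_cases ha : a.1 = C.k0
    · rw [pswap_apply, pswap_apply, if_pos ha, if_pos (by rw [hwJ a]; exact ha)]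
      rcases eq_or_mate (hwJ a) with h | h <;> rcases eq_or_mate (hwJ (mate a)) with h' | h'
      · rw [h, h']
      · rw [mate_mate] at h'; exact absurd (w.p.injective (h'.trans h.symm)) (mate_ne a)
      · exact absurd (w.p.injective (h'.trans h.symm)) (mate_ne a)
      · rw [h, h', mate_mate]
    · rw [pswap_apply, if_neg ha, hfix a ha, pswap_apply, if_neg ha]
  set q := w * W.prm (pswap C.k0) * w⁻¹ with hq
  have hqp : q.p = pswap C.k0 := by
    rw [hq, W.mul_p, W.mul_p, W.prm_p, hp, W.inv_p, mul_inv_cancel_right]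
  have hqv : q.v = w.v + act (pswap C.k0) w.v := by
    rw [hq]
    simp only [W.mul_v, W.mul_p, W.prm_v, W.prm_p, W.inv_v, act_zero, add_zero]
    rw [← act_mul, hp, mul_inv_cancel_right]
  rw [show pswap C.k0 = Equiv.swap C.a0 C.b0 from rfl, act_swap _ _ C.ab, ← add_assoc, vec_add_self,
    zero_add] at hqv
  have hx' : C.ι w * C.s * (C.ι w)⁻¹ = C.ιv q.v * C.s := by
    rw [s, ιv, ← map_inv, ← map_mul, ← map_mul, ← map_mul, ← hq]
    congr 1
    exact W.ext (by simp) (by simp [hqp])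
  rw [hx', hqv]
  rcases z2_cases (w.v C.a0 + w.v C.b0) with h | h <;> rw [h]
  · left; rw [zero_smul, C.ιv_zero, one_mul]
  · right; rw [one_smul]
    exact C.A_comm (C.H0_mem_A C.z_H0) C.s_mem_A

theorem comm_A (h2 : 2 ≤ n) {x : G} (hx : ∀ y ∈ C.A, x * y = y * x) : x ∈ C.A := by
  obtain ⟨w, hwJ, rfl, hfix⟩ := C.comm_H0 h2 fun y hy => hx y (C.H0_mem_A hy)
  refine ⟨w, ⟨fun a => ?_, fun a ha => ?_⟩, rfl⟩
  · by_cases ha : a.1 = C.k0
    · rcases eq_or_mate (hwJ a) with h | h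
      · exact Or.inl h
      · exact Or.inr ⟨Finset.mem_singleton.2 ha, h⟩
    · exact Or.inl (hfix a ha)
  · have hc := C.inj (by rw [map_mul, map_mul]; exact hx _ C.s_mem_A :
      C.ι (w * W.prm (pswap C.k0)) = C.ι (W.prm (pswap C.k0) * w))
    have h := congrFun (congrArg W.v hc) a
    simp only [W.mul_v, W.prm_v, W.prm_p, act_zero, add_zero, zero_add, act_apply] at h
    rw [show (pswap C.k0)⁻¹ = pswap C.k0 from Equiv.swap_inv _ _, pswap_apply,
      if_pos (Finset.mem_singleton.1 ha)] at h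
    exact h.symm

/-- `gH0 = H0` as soon as one conjugate of `t` in `H0` stays in `H0`. -/
theorem canon (h2 : 2 ≤ n) {g x0 : G} (hg : Maps g C.A C.A) (hx0 : C.H0 x0) (hc : IsConj x0 C.t)
    (hy0 : C.H0 (g * x0 * g⁻¹)) {x : G} (hx : C.H0 x) : C.H0 (g * x * g⁻¹) := by
  obtain ⟨v0, -, hv0⟩ := hx0
  obtain ⟨u0, -, hu0⟩ := hy0
  obtain ⟨c, hc⟩ := isConj_iff.1 hc
  obtain ⟨h, hhE, hh⟩ := C.fusion_E (g := c) (u := v0) (v := 1) (by rw [hv0]; exact hc)
  obtain ⟨h', hhE', hh'⟩ := C.fusion_E (g := c * g⁻¹) (u := u0) (v := 1) (by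
    rw [hu0]; rw [show C.ιv 1 = C.t from rfl, ← hc]; group)
  set φ := h' * g * h⁻¹ with hφ
  have hφt : φ * C.t = C.t * φ := by
    rw [← mul_inv_eq_iff_eq_mul, hφ]
    conv_lhs => rw [show C.t = h * x0 * h⁻¹ from by rw [← hv0]; exact hh.symm]
    rw [show C.t = h' * (g * x0 * g⁻¹) * h'⁻¹ from by rw [← hu0]; exact hh'.symm]
    group
  obtain ⟨w, k0, hk0, hw⟩ := C.cent φ hφt
  obtain ⟨v, hv, rfl⟩ := hx
  obtain ⟨v1, hv1⟩ := C.mem_E.1 (hhE.mem (C.mem_E.2 ⟨v, rfl⟩))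
  set k1 := (C.ιv v1)⁻¹ * k0 * C.ιv v1 * k0⁻¹ with hk1
  have hk1K : k1 ∈ C.K := by
    refine C.K.mul_mem ?_ (C.K.inv_mem hk0)
    have := C.Kconj (W.vec v1)⁻¹ k0 hk0
    rwa [map_inv, inv_inv] at this
  set k2 := C.ι w * k1 * (C.ι w)⁻¹ with hk2
  have hk2K : k2 ∈ C.K := C.Kconj w _ hk1K
  obtain ⟨v2, hv2⟩ := C.mem_E.1 (hhE'.inv.mem (C.mem_E.2 ⟨act w.p v1, rfl⟩))
  set k3 := h'⁻¹ * k2 * h'⁻¹⁻¹ with hk3
  have hy : g * C.ιv v * g⁻¹ = C.ιv v2 * k3 := by
    rw [hv2, hk3, hk2, hk1, ← C.conj_ιv, hv1]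
    rw [show g = h'⁻¹ * φ * h by rw [hφ]; group, hw]
    group
  have hyA : g * C.ιv v * g⁻¹ ∈ C.A := hg.mem (C.H0_mem_A ⟨v, hv, rfl⟩)
  have hk3c : ∀ y, C.H0 y → k3 * y = y * k3 := by
    intro y hy'
    have h1 := C.A_comm hyA (C.H0_mem_A hy')
    obtain ⟨u, -, rfl⟩ := hy'
    rw [hy] at h1
    have h2 : C.ιv v2 * C.ιv u = C.ιv u * C.ιv v2 := by rw [← C.ιv_add, ← C.ιv_add, add_comm]
    refine mul_left_cancel (a := C.ιv v2) ?_
    rw [← mul_assoc, h1, ← mul_assoc, ← h2, mul_assoc]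
  obtain ⟨w3, hw3, he, -⟩ := C.comm_H0 h2 hk3c
  have hk31 : k3 = 1 := by
    have hodd : Odd (orderOf k3) := by
      rw [hk3, orderOf_conj_eq']
      exact C.oddK.of_dvd_nat (Subgroup.orderOf_dvd_natCard _ hk2K)
    obtain ⟨j, hj⟩ := IsPGroup.iff_orderOf.1 (isPGroup_pairGroup (n := n)) ⟨w3, hw3⟩
    rw [Subgroup.orderOf_mk, ← orderOf_injective C.ι C.inj, ← he] at hj
    rcases Nat.eq_zero_or_pos j with rfl | hj0
    · rwa [pow_zero, orderOf_eq_one_iff] at hj
    · rw [hj] at hodd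
      exact absurd hodd (Nat.not_odd_iff_even.2 (Nat.even_pow.2 ⟨even_two, hj0.ne'⟩))
  rw [hk31, mul_one] at hy
  obtain ⟨u, hu, hu' | hu'⟩ := C.mem_A.1 hyA
  · exact ⟨u, hu, hu'⟩
  · exfalso
    rw [hy, ιv, ιv, s, ← map_mul] at hu'
    have := congrArg W.p (C.inj hu')
    simp only [W.mul_p, W.vec_p, W.prm_p, one_mul] at this
    exact C.ab ((Equiv.swap_apply_left C.a0 C.b0).symm.trans
      (congrArg (fun q : Equiv.Perm (Blk n) => q C.a0) this)).symm
where
  orderOf_conj_eq' {a b : G} : orderOf (a * b * a⁻¹) = orderOf b := (MulEquiv.orderOf_eq (MulAut.conj a) b)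

/-- An element normalising `A` moves the swap into the base group. -/
theorem exists_gs : ∃ g : G, Maps g C.A C.A ∧ C.H0 (g * C.s * g⁻¹) := by
  let χ : W n → ZMod 2 := fun w => if Equiv.Perm.sign w.p = 1 then 0 else 1
  have hχ : ∀ x y, χ (x * y) = χ x + χ y := fun x y => by
    simp only [χ, W.mul_p, map_mul]
    rcases Int.units_eq_one_or (Equiv.Perm.sign x.p) with h | h <;>
      rcases Int.units_eq_one_or (Equiv.Perm.sign y.p) with h' | h' <;> rw [h, h'] <;> decide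
  have hsign : ∀ k : Fin n, Equiv.Perm.sign (pswap k) = -1 := fun k =>
    Equiv.Perm.sign_swap fun h => zero_ne_one (congrArg Prod.snd h : (0 : Fin 2) = 1)
  obtain ⟨M, hMS, hM, hMχ⟩ := C.exists_maximal χ hχ (a := W.prm (pswap C.k0))
    (pairGroup_le_T0 (pswap_mem _)) (by simp only [χ, W.prm_p, hsign]; decide)
  have hs2 : orderOf C.s = 2 := orderOf_eq_prime (by rw [pow_two, C.s_mul_self])
    fun h => C.not_H0_s ⟨0, rfl, by rw [C.ιv_zero, h]⟩
  obtain ⟨g, hgM, hg⟩ := DihedralPair.exists_conj_extremal C.S M hMS hM C.noTwo hs2 (P := C.A)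
    (fun x => ⟨1, Subtype.ext (by rw [pow_one, coe_pow, pow_two]; exact C.EG_mul_self x.2)⟩)
    (fun x hx => C.A_comm hx C.s_mem_A)
  obtain ⟨L, hL, hgL⟩ := C.conj_EG hg
  obtain ⟨k, rfl⟩ := Finset.card_eq_one.1 (hL.trans (Finset.card_singleton _))
  obtain ⟨-, hq⟩ := C.pairPerm_maps (Equiv.swap k C.k0)
  have hq := hq {k}
  rw [Finset.image_singleton, Equiv.swap_apply_left] at hq
  set q := C.ι (W.prm ((Equiv.swap k C.k0).prodCongr (Equiv.refl (Fin 2)))) with hqdef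
  refine ⟨q * g, hgL.trans hq, ?_⟩
  obtain ⟨w, -, hwχ, hw⟩ := hMχ _ hgM
  obtain ⟨w', hw', hw''⟩ := hgL.mem C.s_mem_A
  obtain rfl : w' = w := C.inj (hw''.trans hw.symm)
  have hp : w'.p = 1 := by
    refine Equiv.ext fun a => ?_
    by_contra hne
    have h1 : ∀ a, w'.p a ≠ a → w'.p = pswap k := by
      intro a ha
      rcases hw'.1 a with h | ⟨ha', h⟩
      · exact absurd h ha
      · refine Equiv.ext fun b => ?_
        rw [pswap_apply]
        obtain rfl := Finset.mem_singleton.1 ha'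
        split_ifs with hb
        · rcases eq_or_mate hb with rfl | rfl
          · exact h
          · rcases hw'.1 (mate a) with h' | ⟨-, h'⟩
            · exact absurd (w'.p.injective (h'.trans h.symm)) (mate_ne a)
            · exact h'
        · rcases hw'.1 b with h' | ⟨hb', -⟩
          · exact h'
          · exact absurd (Finset.mem_singleton.1 hb') hb
    rw [show χ w' = 1 from by simp only [χ, h1 a hne, hsign]; decide] at hwχ
    exact one_ne_zero hwχ
  have hxA : q * g * C.s * (q * g)⁻¹ ∈ C.A := (hgL.trans hq).mem C.s_mem_A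
  obtain ⟨v, hv, h | h⟩ := C.mem_A.1 hxA
  · exact ⟨v, hv, h⟩
  · exfalso
    rw [show q * g * C.s * (q * g)⁻¹ = q * (g * C.s * g⁻¹) * q⁻¹ by group, ← hw,
      W.eq_vec_of_p w' hp, show C.ι (W.vec w'.v) = C.ιv w'.v from rfl, hqdef, C.conj_ιv] at h
    rw [ιv, ιv, s, ← map_mul] at h
    have h2 := congrArg W.p (C.inj h)
    simp only [W.mul_p, W.vec_p, W.prm_p, one_mul] at h2
    exact C.ab ((Equiv.swap_apply_left C.a0 C.b0).symm.trans
      (congrArg (fun q : Equiv.Perm (Blk n) => q C.a0) h2)).symm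

/-- Vectors vanishing on the first pair. -/
def Off (v : Vec n) : Prop := v C.a0 = 0 ∧ v C.b0 = 0

omit [Finite G] in
theorem act_a0b0 {p : Equiv.Perm (Blk n)} (h1 : p C.a0 = C.a0) (h2 : p C.b0 = C.b0) (v : Vec n) :
    act p v C.a0 = v C.a0 ∧ act p v C.b0 = v C.b0 := by
  constructor <;> rw [act_apply] <;> congr 1 <;> rw [Equiv.Perm.inv_def, Equiv.symm_apply_eq]
  · exact h1.symm
  · exact h2.symm

omit [Finite G] in
theorem split_vec {v : Vec n} (h : v C.a0 = v C.b0) :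
    C.Off (v + v C.a0 • (e C.a0 + e C.b0)) ∧
      C.ιv v = C.ιv (v + v C.a0 • (e C.a0 + e C.b0)) * C.ιv (v C.a0 • (e C.a0 + e C.b0)) := by
  refine ⟨⟨?_, ?_⟩, by rw [← C.ιv_add, add_assoc, vec_add_self, add_zero]⟩
  · simp [e_apply, C.ab, z2_add_self]
  · simp [e_apply, C.ab.symm, ← h, z2_add_self]

omit [Finite G] in
theorem pswap_comm {p : Equiv.Perm (Blk n)} (h1 : p C.a0 = C.a0) (h2 : p C.b0 = C.b0) :
    p * pswap C.k0 = pswap C.k0 * p := by
  rw [show pswap C.k0 = Equiv.swap C.a0 C.b0 from rfl, Equiv.mul_swap_eq_swap_mul, h1, h2]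

/-- An element of order three exchanging the swap with the flips. -/
theorem exists_rotation (hgood : C.Good) (h2 : 2 ≤ n) : ∃ (N : G) (c : Vec n) (i : ZMod 2),
    C.Off c ∧ (∀ p : Equiv.Perm (Blk n), p C.a0 = C.a0 → p C.b0 = C.b0 → act p c = c) ∧
    N ^ 3 = 1 ∧ C.e1 * N * C.e1 = N⁻¹ ∧ (∀ v, C.Off v → N * C.ιv v * N⁻¹ = C.ιv v) ∧
    N * C.z * N⁻¹ = C.z * (C.ιv (c + i • (e C.a0 + e C.b0)) * C.s) ∧
    N * (C.ιv (c + i • (e C.a0 + e C.b0)) * C.s) * N⁻¹ = C.z := by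
  obtain ⟨g', hg', hg's⟩ := C.exists_gs
  obtain ⟨g, hg, hgt⟩ : ∃ g, Maps g C.A C.A ∧ ¬ C.H0 (g * C.t * g⁻¹) := by
    by_contra hne
    push Not at hne
    refine C.not_H0_s ?_
    have hc := C.canon h2 hg'.inv C.t_H0 (IsConj.refl _) (hne _ hg'.inv) hg's
    convert hc using 1
    group
  -- membership in the conjugate hyperplane
  have inG : ∀ u, C.H0 u → IsConj u C.t → ¬ C.H0 (g⁻¹ * u * g) := by
    intro u hu hc hu'
    refine hgt (C.canon h2 hg hu' ?_ ?_ C.t_H0)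
    · refine IsConj.trans ?_ hc
      exact isConj_iff.2 ⟨g, by group⟩
    · convert hu using 1; group
  have hmemA : ∀ x ∈ C.A, g⁻¹ * x * g ∈ C.A := fun x hx => by simpa using hg.inv.mem hx
  have htc : IsConj C.t C.t := IsConj.refl _
  have hte : ∀ a : Blk n, IsConj (C.ιv (1 + e a)) C.t := by
    intro a
    obtain ⟨f, hf, hf1⟩ := hgood.2 a
    have := C.autX_conj hf 1
    rw [hf1] at this
    exact this.symm
  have hone : C.H0 (g⁻¹ * 1 * g) := ⟨0, rfl, by rw [C.ιv_zero]; group⟩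
  have hG_e : ∀ a : Blk n, a.1 ≠ C.k0 → C.H0 (g⁻¹ * C.ιv (e a) * g) := by
    intro a ha
    have h1 : C.H0 (C.ιv (1 + e a)) := by rw [C.ιv_add]; exact C.H0_mul C.t_H0 (C.e_H0 ha)
    have := C.H0_of_mul (hmemA _ (C.H0_mem_A C.t_H0)) (hmemA _ (C.H0_mem_A h1)) (inG _ C.t_H0 htc)
      (inG _ h1 (hte a))
    rw [show g⁻¹ * C.t * g * (g⁻¹ * C.ιv (1 + e a) * g) = g⁻¹ * (C.t * C.ιv (1 + e a)) * g by group, t,
      ← C.ιv_add, ← add_assoc, vec_add_self, zero_add] at this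
    exact this
  have hG_off : ∀ v, C.Off v → C.H0 (g⁻¹ * C.ιv v * g) := by
    intro v hv
    have key : ∀ S : Finset (Blk n), C.H0 (g⁻¹ * C.ιv (∑ a ∈ S, v a • e a) * g) := by
      intro S
      induction S using Finset.induction_on with
      | empty => rw [Finset.sum_empty, C.ιv_zero]; exact hone
      | insert a S ha ih =>
        rw [Finset.sum_insert ha, C.ιv_add,
          show g⁻¹ * (C.ιv (v a • e a) * C.ιv (∑ a ∈ S, v a • e a)) * g =
            (g⁻¹ * C.ιv (v a • e a) * g) * (g⁻¹ * C.ιv (∑ a ∈ S, v a • e a) * g) by group]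
        refine C.H0_mul ?_ ih
        rcases z2_cases (v a) with h | h <;> rw [h]
        · rw [zero_smul, C.ιv_zero]; exact hone
        · rw [one_smul]
          refine hG_e a fun hk => ?_
          rcases C.fst_cases hk with rfl | rfl
          · exact one_ne_zero (h.symm.trans hv.1)
          · exact one_ne_zero (h.symm.trans hv.2)
    rw [sum_e v]; exact key _
  have hzG : ¬ C.H0 (g⁻¹ * C.z * g) := fun h => by
    obtain ⟨hoff, hsp⟩ := C.split_vec (v := (1 : Vec n)) rfl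
    refine inG _ C.t_H0 htc ?_
    rw [t, hsp, Pi.one_apply, one_smul]
    have := C.H0_mul (hG_off _ hoff) h
    convert this using 1
    simp only [Pi.one_apply, one_smul, z]
    group
  -- the second transvection
  set r := g * C.e1 * g⁻¹ with hr
  have hr2 : r * r = 1 := by
    rw [hr, show g * C.e1 * g⁻¹ * (g * C.e1 * g⁻¹) = g * (C.e1 * C.e1) * g⁻¹ by group, C.e1_mul_self]; group
  have hrinv : r⁻¹ = r := inv_eq_of_mul_eq_one_right hr2
  set w := g * C.z * g⁻¹ with hw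
  have hwA : w ∈ C.A := hg.mem (C.H0_mem_A C.z_H0)
  have rfix : ∀ x, C.H0 (g⁻¹ * x * g) → r * x * r = x := by
    intro x hx
    rw [hr, show g * C.e1 * g⁻¹ * x * (g * C.e1 * g⁻¹) = g * (C.e1 * (g⁻¹ * x * g) * C.e1) * g⁻¹ by group,
      C.e1_H0 hx]
    group
  have rmove : ∀ x ∈ C.A, ¬ C.H0 (g⁻¹ * x * g) → r * x * r = x * w := by
    intro x hx hx'
    rw [hr, show g * C.e1 * g⁻¹ * x * (g * C.e1 * g⁻¹) = g * (C.e1 * (g⁻¹ * x * g) * C.e1) * g⁻¹ by group,
      C.e1_off (hmemA x hx) hx', hw]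
    group
  have rA : ∀ x ∈ C.A, r * x * r ∈ C.A := by
    intro x hx
    by_cases h : C.H0 (g⁻¹ * x * g)
    · rw [rfix x h]; exact hx
    · rw [rmove x hx h]; exact C.A.mul_mem hx hwA
  have hww : r * w * r = w := rfix w (by rw [hw]; convert C.z_H0 using 1; group)
  have rz : r * C.z * r = C.z * w := rmove _ (C.H0_mem_A C.z_H0) hzG
  have cz : ∀ x ∈ C.A, x * C.z = C.z * x := fun x hx => C.A_comm hx (C.H0_mem_A C.z_H0)
  have hw1 : w ≠ 1 := fun h => by
    have h' : C.z = 1 := by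
      have := congrArg (fun y => g⁻¹ * y * g) h
      simpa [hw, mul_assoc] using this
    have := congrFun (C.ιv_inj (h'.trans C.ιv_zero.symm)) C.a0
    rw [e_add_self _ _ C.ab] at this
    exact one_ne_zero this
  have hwH : ¬ C.H0 w := by
    intro hwH0
    have rH : ∀ x, C.H0 x → C.H0 (r * x * r) := by
      intro x hx
      by_cases h : C.H0 (g⁻¹ * x * g)
      · rw [rfix x h]; exact hx
      · rw [rmove x (C.H0_mem_A hx) h]; exact C.H0_mul hx hwH0
    have hq : ∀ y, C.H0 y → r * C.e1 * r * y = y * (r * C.e1 * r) := fun y hy => by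
      calc r * C.e1 * r * y = r * (C.e1 * (r * y * r) * C.e1) * C.e1⁻¹ * r⁻¹ := by group
        _ = r * (r * y * r) * C.e1⁻¹ * r⁻¹ := by rw [C.e1_H0 (rH y hy)]
        _ = (r * r) * y * r * C.e1 * r := by rw [inv_eq_of_mul_eq_one_right C.e1_mul_self, hrinv]; group
        _ = y * (r * C.e1 * r) := by rw [hr2, one_mul]; group
    have hrs : ¬ C.H0 (r * C.s * r) := fun h => C.not_H0_s (by
      have h' := rH _ h
      rwa [show r * (r * C.s * r) * r = (r * r) * C.s * (r * r) by group, hr2, one_mul, mul_one] at h')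
    have hval : r * C.e1 * r * C.s * (r * C.e1 * r)⁻¹ = C.s * (C.z * w) := by
      rw [show r * C.e1 * r * C.s * (r * C.e1 * r)⁻¹ = r * (C.e1 * (r * C.s * r⁻¹) * C.e1⁻¹) * r⁻¹ by group,
        hrinv, inv_eq_of_mul_eq_one_right C.e1_mul_self, C.e1_off (rA _ C.s_mem_A) hrs,
        show r * (r * C.s * r * C.z) * r = (r * r) * C.s * (r * C.z * r) by group, hr2, one_mul, rz]
    rcases C.comm_H0_s h2 hq with h | h <;> rw [hval] at h
    · rw [mul_eq_left] at h
      refine hzG ?_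
      have : w = C.z := by
        rw [← inv_eq_of_mul_eq_one_right h]; exact C.A_inv (C.H0_mem_A C.z_H0)
      rw [← this, hw]
      convert C.z_H0 using 1; group
    · exact hw1 (mul_eq_left.1 (mul_left_cancel h))
  obtain ⟨v, hv, hwv⟩ := (C.A_cases hwA).resolve_left hwH
  set c := v + v C.a0 • (e C.a0 + e C.b0) with hc
  have hcoff : C.Off c := (C.split_vec hv).1
  have hvc : v = c + v C.a0 • (e C.a0 + e C.b0) := by rw [hc, add_assoc, vec_add_self, add_zero]
  have rB : ∀ u, C.Off u → r * C.ιv u * r = C.ιv u := fun u hu => rfix _ (hG_off u hu)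
  -- invariance of the base part
  have hinv : ∀ p : Equiv.Perm (Blk n), p C.a0 = C.a0 → p C.b0 = C.b0 → act p c = c := by
    intro p hp1 hp2
    have hpv := C.act_a0b0 hp1 hp2 v
    set d := v + act p v with hd
    have hdoff : C.Off d := ⟨by rw [hd, Pi.add_apply, hpv.1, z2_add_self],
      by rw [hd, Pi.add_apply, hpv.2, z2_add_self]⟩
    suffices hd0 : d = 0 by
      have e' : act p v = v := ((vec_eq_iff_add_eq_zero _ _).1 hd0).symm
      rw [hc, act_add, e']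
      congr 1
      rcases z2_cases (v C.a0) with h | h <;> rw [h]
      · rw [zero_smul, act_zero]
      · rw [one_smul, act_add, act_e, act_e, hp1, hp2]
    set h := C.ι (W.prm p) with hh
    have hhs : h * C.s * h⁻¹ = C.s := by
      rw [hh, s, ← map_inv, ← map_mul, ← map_mul]
      congr 1
      exact W.ext (by simp) (by simp [C.pswap_comm hp1 hp2])
    have hhv : ∀ u, h * C.ιv u * h⁻¹ = C.ιv (act p u) := fun u => C.conj_ιv _ u
    have hhz : h * C.z * h⁻¹ = C.z := by rw [z, hhv, act_add, act_e, act_e, hp1, hp2]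
    have hw' : h * w * h⁻¹ = w * C.ιv d := by
      rw [C.A_comm hwA (C.H0_mem_A ⟨d, by rw [hdoff.1, hdoff.2], rfl⟩), hwv,
        show h * (C.ιv v * C.s) * h⁻¹ = (h * C.ιv v * h⁻¹) * (h * C.s * h⁻¹) by group, hhv, hhs, ← mul_assoc,
        ← C.ιv_add, hd, add_comm v, add_assoc, vec_add_self, add_zero]
    set q := r * (h * r * h⁻¹) with hqd
    have hqz : q * C.z * q⁻¹ = C.z * C.ιv d := by
      rw [hqd, show r * (h * r * h⁻¹) * C.z * (r * (h * r * h⁻¹))⁻¹ =
        r * (h * (r * (h⁻¹ * C.z * h) * r⁻¹) * h⁻¹) * r⁻¹ by group,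
        show h⁻¹ * C.z * h = C.z by conv_lhs => rw [← hhz]
                                    group,
        hrinv, rz, show h * (C.z * w) * h⁻¹ = (h * C.z * h⁻¹) * (h * w * h⁻¹) by group, hhz, hw',
        show r * (C.z * (w * C.ιv d)) * r = (r * C.z * r) * (r⁻¹ * w * r) * (r⁻¹ * C.ιv d * r) by group,
        hrinv, rz, hww, rB d hdoff, show C.z * w * w * C.ιv d = C.z * (w * w) * C.ιv d by group,
        C.EG_mul_self hwA, mul_one]
    have hqB : ∀ u, C.Off u → q * C.ιv u * q⁻¹ = C.ιv u := by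
      intro u hu
      obtain ⟨i1, i2⟩ : p⁻¹ C.a0 = C.a0 ∧ p⁻¹ C.b0 = C.b0 :=
        ⟨by rw [Equiv.Perm.inv_def, Equiv.symm_apply_eq]; exact hp1.symm,
         by rw [Equiv.Perm.inv_def, Equiv.symm_apply_eq]; exact hp2.symm⟩
      have hoff' : C.Off (act p⁻¹ u) :=
        ⟨by rw [(C.act_a0b0 i1 i2 u).1, hu.1], by rw [(C.act_a0b0 i1 i2 u).2, hu.2]⟩
      have h1 : h⁻¹ * C.ιv u * h = C.ιv (act p⁻¹ u) := by
        have := hhv (act p⁻¹ u)
        rw [← act_mul, mul_inv_cancel, act_one] at this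
        rw [← this]; group
      rw [hqd, show r * (h * r * h⁻¹) * C.ιv u * (r * (h * r * h⁻¹))⁻¹ =
        r * (h * (r * (h⁻¹ * C.ιv u * h) * r⁻¹) * h⁻¹) * r⁻¹ by group, h1, hrinv, rB _ hoff', hhv,
        ← act_mul, mul_inv_cancel, act_one, rB u hu]
    have hqH : ∀ y, C.H0 y → C.H0 (q * y * q⁻¹) := by
      rintro _ ⟨u, hu, rfl⟩
      obtain ⟨ho, hsp⟩ := C.split_vec hu
      rw [hsp, show q * (C.ιv (u + u C.a0 • (e C.a0 + e C.b0)) * C.ιv (u C.a0 • (e C.a0 + e C.b0))) * q⁻¹ =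
        (q * C.ιv (u + u C.a0 • (e C.a0 + e C.b0)) * q⁻¹) * (q * C.ιv (u C.a0 • (e C.a0 + e C.b0)) * q⁻¹) by
          group, hqB _ ho]
      refine C.H0_mul ⟨_, by rw [ho.1, ho.2], rfl⟩ ?_
      rcases z2_cases (u C.a0) with h' | h' <;> rw [h']
      · rw [zero_smul, C.ιv_zero]; rw [mul_one, mul_inv_cancel]; exact ⟨0, rfl, C.ιv_zero⟩
      · rw [one_smul, ← z, hqz]; exact C.H0_mul C.z_H0 ⟨d, by rw [hdoff.1, hdoff.2], rfl⟩
    have hqA : ∀ y ∈ C.A, q * y * q⁻¹ ∈ C.A := by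
      intro y hy
      obtain ⟨u, hu, e' | e'⟩ := C.mem_A.1 hy
      · exact C.H0_mem_A (hqH _ ⟨u, hu, e'⟩)
      · rw [← e', show q * (C.ιv u * C.s) * q⁻¹ = (q * C.ιv u * q⁻¹) * (q * C.s * q⁻¹) by group]
        refine C.A.mul_mem (C.H0_mem_A (hqH _ ⟨u, hu, rfl⟩)) ?_
        rw [hqd, show r * (h * r * h⁻¹) * C.s * (r * (h * r * h⁻¹))⁻¹ =
          r * (h * (r * (h⁻¹ * C.s * h) * r⁻¹) * h⁻¹) * r⁻¹ by group,
          show h⁻¹ * C.s * h = C.s by conv_lhs => rw [← hhs]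
                                      group, hrinv]
        refine rA _ ?_
        obtain ⟨u', hu', e'' | e''⟩ := C.mem_A.1 (rA _ C.s_mem_A) <;> rw [← e'']
        · rw [hhv]
          exact C.H0_mem_A ⟨_, by rw [(C.act_a0b0 hp1 hp2 u').1, (C.act_a0b0 hp1 hp2 u').2]; exact hu', rfl⟩
        · rw [show h * (C.ιv u' * C.s) * h⁻¹ = (h * C.ιv u' * h⁻¹) * (h * C.s * h⁻¹) by group, hhv, hhs]
          exact C.A.mul_mem (C.H0_mem_A
            ⟨_, by rw [(C.act_a0b0 hp1 hp2 u').1, (C.act_a0b0 hp1 hp2 u').2]; exact hu', rfl⟩) C.s_mem_A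
    -- the conjugate of e1 centralises H0
    have hinvA : ∀ y ∈ C.A, q⁻¹ * y * q ∈ C.A := fun y hy => by
      simpa using (maps_of_le hqA le_rfl).inv.mem hy
    have hHinv : ∀ y, C.H0 y → C.H0 (q⁻¹ * y * q) := by
      intro y hy
      obtain ⟨u, hu, e' | e'⟩ := C.mem_A.1 (hinvA y (C.H0_mem_A hy))
      · exact ⟨u, hu, e'⟩
      · exfalso
        have hqs : C.H0 (q * C.s * q⁻¹) := by
          rw [show q * C.s * q⁻¹ = (q * C.ιv u * q⁻¹)⁻¹ * y by
            rw [show y = q * (q⁻¹ * y * q) * q⁻¹ by group, ← e']; group,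
            C.A_inv (C.H0_mem_A (hqH _ ⟨u, hu, rfl⟩))]
          exact C.H0_mul (hqH _ ⟨u, hu, rfl⟩) hy
        obtain ⟨N, hN⟩ : ∃ N : ℕ, q ^ N = 1 ∧ 0 < N := ⟨_, pow_orderOf_eq_one q, orderOf_pos q⟩
        have key : ∀ j : ℕ, C.H0 (q ^ (j + 1) * C.s * (q ^ (j + 1))⁻¹) := by
          intro j
          induction j with
          | zero => simpa using hqs
          | succ j ih =>
            rw [pow_succ', show q * q ^ (j + 1) * C.s * (q * q ^ (j + 1))⁻¹ =
              q * (q ^ (j + 1) * C.s * (q ^ (j + 1))⁻¹) * q⁻¹ by group]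
            exact hqH _ ih
        have := key (N - 1)
        rw [Nat.sub_add_cancel hN.2, hN.1] at this
        simp only [one_mul, inv_one, mul_one] at this
        exact C.not_H0_s this
    have hqc : ∀ y, C.H0 y → q * C.e1 * q⁻¹ * y = y * (q * C.e1 * q⁻¹) := by
      intro y hy
      calc q * C.e1 * q⁻¹ * y = q * (C.e1 * (q⁻¹ * y * q) * C.e1) * C.e1⁻¹ * q⁻¹ := by group
        _ = y * (q * C.e1 * q⁻¹) := by
            rw [C.e1_H0 (hHinv y hy), inv_eq_of_mul_eq_one_right C.e1_mul_self]; group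
    have hns : ¬ C.H0 (q⁻¹ * C.s * q) := fun h' => C.not_H0_s (by
      have := hqH _ h'
      convert this using 1
      group)
    have hval : q * C.e1 * q⁻¹ * C.s * (q * C.e1 * q⁻¹)⁻¹ = C.s * (C.z * C.ιv d) := by
      rw [show q * C.e1 * q⁻¹ * C.s * (q * C.e1 * q⁻¹)⁻¹ = q * (C.e1 * (q⁻¹ * C.s * q) * C.e1⁻¹) * q⁻¹ by group,
        inv_eq_of_mul_eq_one_right C.e1_mul_self, C.e1_off (hinvA _ C.s_mem_A) hns,
        show q * (q⁻¹ * C.s * q * C.z) * q⁻¹ = C.s * (q * C.z * q⁻¹) by group, hqz]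
    rcases C.comm_H0_s h2 hqc with h' | h' <;> rw [hval] at h'
    · exfalso
      rw [mul_eq_left, z, ← C.ιv_add, ← C.ιv_zero] at h'
      have := congrFun (C.ιv_inj h') C.a0
      rw [Pi.add_apply, e_add_self _ _ C.ab, hdoff.1, add_zero] at this
      exact one_ne_zero this
    · exact C.ιv_inj ((mul_eq_left.1 (mul_left_cancel h')).trans C.ιv_zero.symm)
  -- the rotation
  set N0 := r * C.e1 with hN0
  have cv : ∀ x, N0 * x * N0⁻¹ = r * (C.e1 * x * C.e1) * r := fun x => by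
    rw [hN0, mul_inv_rev, hrinv, inv_eq_of_mul_eq_one_right C.e1_mul_self]; group
  have nB : ∀ u, C.Off u → N0 * C.ιv u * N0⁻¹ = C.ιv u := fun u hu => by
    rw [cv, C.e1_H0 ⟨u, by rw [hu.1, hu.2], rfl⟩, rB u hu]
  have nz : N0 * C.z * N0⁻¹ = C.z * w := by rw [cv, C.e1_H0 C.z_H0, rz]
  have nw : N0 * w * N0⁻¹ = C.z := by
    rw [cv, C.e1_off hwA hwH, show r * (w * C.z) * r = (r * w * r) * (r⁻¹ * C.z * r) by group, hrinv, hww, rz,
      show w * (C.z * w) = (w * C.z) * w by group, cz w hwA, mul_assoc, C.EG_mul_self hwA, mul_one]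
  have nA : ∀ x ∈ C.A, N0 * x * N0⁻¹ ∈ C.A := fun x hx => by
    rw [cv]
    by_cases h : C.H0 x
    · rw [C.e1_H0 h]; exact rA _ hx
    · rw [C.e1_off hx h]; exact rA _ (C.A.mul_mem hx (C.H0_mem_A C.z_H0))
  have hzwz : C.z * w * C.z = w := by
    rw [mul_assoc, cz w hwA, ← mul_assoc, C.EG_mul_self (C.H0_mem_A C.z_H0), one_mul]
  have n3 : ∀ x ∈ C.A, N0 ^ 3 * x = x * N0 ^ 3 := by
    have cyc : ∀ x : G, N0 ^ 3 * x * (N0 ^ 3)⁻¹ = N0 * (N0 * (N0 * x * N0⁻¹) * N0⁻¹) * N0⁻¹ := fun x => by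
      simp only [pow_succ, pow_zero, one_mul, mul_inv_rev, mul_assoc]
    have fixz : N0 ^ 3 * C.z * (N0 ^ 3)⁻¹ = C.z := by
      rw [cyc, nz, show N0 * (C.z * w) * N0⁻¹ = (N0 * C.z * N0⁻¹) * (N0 * w * N0⁻¹) by group, nz, nw,
        hzwz, nw]
    have fixw : N0 ^ 3 * w * (N0 ^ 3)⁻¹ = w := by
      rw [cyc, nw, nz, show N0 * (C.z * w) * N0⁻¹ = (N0 * C.z * N0⁻¹) * (N0 * w * N0⁻¹) by group, nz, nw,
        hzwz]
    have fixB : ∀ u, C.Off u → N0 ^ 3 * C.ιv u * (N0 ^ 3)⁻¹ = C.ιv u := fun u hu => by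
      rw [cyc, nB u hu, nB u hu, nB u hu]
    have comm_of : ∀ x : G, N0 ^ 3 * x * (N0 ^ 3)⁻¹ = x → N0 ^ 3 * x = x * N0 ^ 3 :=
      fun x hx => mul_inv_eq_iff_eq_mul.1 hx
    have comm_mul : ∀ x y : G, N0 ^ 3 * x = x * N0 ^ 3 → N0 ^ 3 * y = y * N0 ^ 3 →
        N0 ^ 3 * (x * y) = (x * y) * N0 ^ 3 := fun x y hx hy => by
      rw [← mul_assoc, hx, mul_assoc, hy, ← mul_assoc]
    have onH : ∀ u : Vec n, u C.a0 = u C.b0 → N0 ^ 3 * C.ιv u = C.ιv u * N0 ^ 3 := fun u hu => by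
      obtain ⟨ho, hsp⟩ := C.split_vec hu
      rw [hsp]
      refine comm_mul _ _ (comm_of _ (fixB _ ho)) ?_
      rcases z2_cases (u C.a0) with h' | h' <;> rw [h']
      · rw [zero_smul, C.ιv_zero, mul_one, one_mul]
      · rw [one_smul]; exact comm_of _ fixz
    intro x hx
    obtain ⟨u, hu, e' | e'⟩ := C.mem_A.1 hx <;> rw [← e']
    · exact onH u hu
    · refine comm_mul _ _ (onH u hu) ?_
      rw [show C.s = C.ιv v * w by rw [hwv, ← mul_assoc, C.ιv_mul_self, one_mul]]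
      exact comm_mul _ _ (onH v hv) (comm_of _ fixw)
  have hmA : N0 ^ 3 ∈ C.A := C.comm_A h2 n3
  have hm2 : N0 ^ 3 * N0 ^ 3 = 1 := C.EG_mul_self hmA
  have hN : N0 ^ 4 = N0 ^ 3 * N0 := pow_succ N0 3
  have actN : ∀ x ∈ C.A, N0 ^ 4 * x * (N0 ^ 4)⁻¹ = N0 * x * N0⁻¹ := fun x hx => by
    rw [hN, show N0 ^ 3 * N0 * x * (N0 ^ 3 * N0)⁻¹ = N0 ^ 3 * (N0 * x * N0⁻¹) * (N0 ^ 3)⁻¹ by group,
      n3 _ (nA x hx), mul_inv_cancel_right]
  refine ⟨N0 ^ 4, c, v C.a0, hcoff, hinv, ?_, ?_, fun u hu => ?_, ?_, ?_⟩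
  · rw [← pow_mul, show 4 * 3 = (3 + 3) + (3 + 3) from rfl, pow_add, pow_add, hm2, mul_one]
  · have hb : C.e1 * N0 * C.e1 = N0⁻¹ := by
      rw [hN0, mul_inv_rev, hrinv, inv_eq_of_mul_eq_one_right C.e1_mul_self,
        show C.e1 * (r * C.e1) * C.e1 = C.e1 * r * (C.e1 * C.e1) by group, C.e1_mul_self, mul_one]
    have := conj_pow (a := C.e1) (b := N0) (i := 4)
    rw [inv_eq_of_mul_eq_one_right C.e1_mul_self, hb, inv_pow] at this
    exact this.symm
  · rw [actN _ (C.H0_mem_A ⟨u, by rw [hu.1, hu.2], rfl⟩), nB u hu]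
  · rw [← hvc, ← hwv, actN _ (C.H0_mem_A C.z_H0), nz]
  · rw [← hvc, ← hwv, actN _ hwA, nw]

/-- One swap can be removed. -/
theorem remove_swap (hgood : C.Good) (h2 : 2 ≤ n) {u : W n} (hu : u * u = 1) (hp1 : u.p C.a0 = C.a0)
    (hp2 : u.p C.b0 = C.b0) (hv : C.Off u.v) : ∃ u' : W n, u'.p = u.p ∧ IsConj (C.s * C.ι u) (C.ι u') := by
  obtain ⟨N, c, i, hc, hinv, hN3, hNe, hNB, hNz, hNw⟩ := C.exists_rotation hgood h2
  set w := C.ιv (c + i • (e C.a0 + e C.b0)) * C.s with hw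
  have hcp : act u.p c = c := hinv _ hp1 hp2
  have hcH : (c + i • (e C.a0 + e C.b0)) C.a0 = (c + i • (e C.a0 + e C.b0)) C.b0 := by
    simp [hc.1, hc.2, e_apply, C.ab, C.ab.symm]
  have hwA : w ∈ C.A := C.mem_A.2 ⟨_, hcH, Or.inr rfl⟩
  have hzA : C.z ∈ C.A := C.H0_mem_A C.z_H0
  have hzw : w * C.z = C.z * w := C.A_comm hwA hzA
  have hNzw : N * (C.z * w) * N⁻¹ = w := by
    rw [show N * (C.z * w) * N⁻¹ = (N * C.z * N⁻¹) * (N * w * N⁻¹) by group, hNz, hNw, mul_assoc, hzw,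
      ← mul_assoc, C.EG_mul_self hzA, one_mul]
  set U := C.ι (W.vec c * u) with hU
  have hcu : W.vec c * u = u * W.vec c := ((W.commute_vec_iff u c).2 hcp).symm
  have hU2 : U * U = 1 := by
    rw [hU, ← map_mul, show W.vec c * u * (W.vec c * u) = W.vec c * (u * W.vec c) * u by group, ← hcu,
      show W.vec c * (W.vec c * u) * u = (W.vec c * W.vec c) * (u * u) by group, W.vec_mul_self, hu, one_mul,
      map_one]
  have hUinv : U⁻¹ = U := inv_eq_of_mul_eq_one_right hU2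
  have hUp : (W.vec c * u).p = u.p := by simp
  have hUv : ∀ x : Vec n, U * C.ιv x * U = C.ιv (act u.p x) := fun x => by
    have := C.conj_ιv (W.vec c * u) x
    rwa [← hU, hUinv, hUp] at this
  have hUz : U * C.z * U = C.z := by rw [z, hUv, act_add, act_e, act_e, hp1, hp2]
  have hUe : U * C.e1 * U = C.e1 := by rw [e1, hUv, act_e, hp1]
  have hUs : U * C.s * U = C.s := by
    have hsc : C.s * U = U * C.s := by
      rw [hU, s, ← map_mul, ← map_mul]
      congr 1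
      refine W.ext ?_ (by simp [C.pswap_comm hp1 hp2])
      simp only [W.mul_v, W.prm_v, W.prm_p, W.vec_v, W.vec_p, act_one, zero_add, act_zero, add_zero, hUp]
      exact C.act_pswap_eq (by simp [hc.1, hc.2, hv.1, hv.2])
    rw [← hsc, mul_assoc, hU2, mul_one]
  have hUw : U * w * U = w := by
    rw [hw, show U * (C.ιv (c + i • (e C.a0 + e C.b0)) * C.s) * U =
      (U * C.ιv (c + i • (e C.a0 + e C.b0)) * U) * (U⁻¹ * C.s * U) by group, hUinv, hUs, hUv, act_add, hcp]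
    congr 3
    rcases z2_cases i with h | h <;> rw [h]
    · rw [zero_smul, act_zero]
    · rw [one_smul, act_add, act_e, act_e, hp1, hp2]
  set v := U * N * U * N⁻¹ with hvdef
  have vc : ∀ x y, N * x * N⁻¹ = y → U * x * U = x → U * y * U = y → v * y = y * v := by
    intro x y hxy hUx hUy
    rw [hvdef, ← mul_inv_eq_iff_eq_mul, ← hxy, mul_inv_rev, inv_inv, mul_inv_rev, mul_inv_rev, hUinv]
    calc U * N * U * N⁻¹ * (N * x * N⁻¹) * (N * (U * (N⁻¹ * U)))
        = U * (N * (U * x * U) * N⁻¹) * U := by group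
      _ = N * x * N⁻¹ := by rw [hUx, hxy, hUy]
  have hvB : ∀ x, C.Off x → v * C.ιv x = C.ιv x * v := by
    intro x hx
    have ho : C.Off (act u.p x) :=
      ⟨by rw [(C.act_a0b0 hp1 hp2 x).1, hx.1], by rw [(C.act_a0b0 hp1 hp2 x).2, hx.2]⟩
    have hpp : act u.p (act u.p x) = x := by
      rw [← act_mul, ((W.mul_self_eq_one u).1 hu).1, act_one]
    rw [hvdef, ← mul_inv_eq_iff_eq_mul, mul_inv_rev, inv_inv, mul_inv_rev, mul_inv_rev, hUinv]
    calc U * N * U * N⁻¹ * C.ιv x * (N * (U * (N⁻¹ * U)))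
        = U * (N * (U * (N⁻¹ * C.ιv x * N) * U) * N⁻¹) * U := by group
      _ = U * (N * C.ιv (act u.p x) * N⁻¹) * U := by
          rw [show N⁻¹ * C.ιv x * N = C.ιv x by conv_lhs => rw [← hNB x hx]
                                                group, hUv]
      _ = C.ιv x := by rw [hNB _ ho, hUv, hpp]
  have hUzw : U * (C.z * w) * U = C.z * w := by
    rw [show U * (C.z * w) * U = (U * C.z * U) * (U⁻¹ * w * U) by group, hUinv, hUz, hUw]
  have hvA : v ∈ C.A := by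
    refine C.comm_A h2 ?_
    have hmul : ∀ x y : G, v * x = x * v → v * y = y * v → v * (x * y) = (x * y) * v := fun x y hx hy => by
      rw [← mul_assoc, hx, mul_assoc, hy, ← mul_assoc]
    have onH : ∀ x : Vec n, x C.a0 = x C.b0 → v * C.ιv x = C.ιv x * v := fun x hx => by
      obtain ⟨ho, hsp⟩ := C.split_vec hx
      rw [hsp]
      refine hmul _ _ (hvB _ ho) ?_
      rcases z2_cases (x C.a0) with h' | h' <;> rw [h']
      · rw [zero_smul, C.ιv_zero, mul_one, one_mul]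
      · rw [one_smul]; exact vc w C.z hNw hUw hUz
    intro x hx
    obtain ⟨x', hx', e' | e'⟩ := C.mem_A.1 hx <;> rw [← e']
    · exact onH x' hx'
    · refine hmul _ _ (onH x' hx') ?_
      rw [show C.s = C.ιv (c + i • (e C.a0 + e C.b0)) * w by rw [hw, ← mul_assoc, C.ιv_mul_self, one_mul]]
      exact hmul _ _ (onH _ hcH) (vc (C.z * w) w hNzw hUzw hUw)
  -- decompose
  obtain ⟨α, b, hα, hb, hvab⟩ : ∃ α b : G, (α = 1 ∨ α = C.z ∨ α = w ∨ α = C.z * w) ∧
      (∃ x, C.Off x ∧ C.ιv x = b) ∧ v = α * b := by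
    obtain ⟨x, hx, e' | e'⟩ := C.mem_A.1 hvA
    · obtain ⟨ho, hsp⟩ := C.split_vec hx
      refine ⟨C.ιv (x C.a0 • (e C.a0 + e C.b0)), _, ?_, ⟨_, ho, rfl⟩, ?_⟩
      rotate_left
      · rw [← e', hsp]
        exact C.A_comm (C.H0_mem_A ⟨_, by rw [ho.1, ho.2], rfl⟩)
          (C.H0_mem_A ⟨_, by simp [e_apply, C.ab, C.ab.symm], rfl⟩)
      rcases z2_cases (x C.a0) with h' | h' <;> rw [h']
      · exact Or.inl (by rw [zero_smul, C.ιv_zero])
      · exact Or.inr (Or.inl (by rw [one_smul]; rfl))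
    · set y := x + (c + i • (e C.a0 + e C.b0)) with hy
      have hy' : y C.a0 = y C.b0 := by
        show x C.a0 + _ = x C.b0 + _
        rw [hx, hcH]
      have hvy : v = C.ιv y * w := by
        rw [← e', hw, ← mul_assoc, ← C.ιv_add, hy, add_assoc, vec_add_self, add_zero]
      obtain ⟨ho, hsp⟩ := C.split_vec hy'
      refine ⟨C.ιv (y C.a0 • (e C.a0 + e C.b0)) * w, _, ?_, ⟨_, ho, rfl⟩, ?_⟩
      · rcases z2_cases (y C.a0) with h' | h' <;> rw [h']
        · exact Or.inr (Or.inr (Or.inl (by rw [zero_smul, C.ιv_zero, one_mul])))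
        · exact Or.inr (Or.inr (Or.inr (by rw [one_smul]; rfl)))
      · rw [hvy, hsp, mul_assoc]
        exact C.A_comm (C.H0_mem_A ⟨_, by rw [ho.1, ho.2], rfl⟩)
          (C.A.mul_mem (C.H0_mem_A ⟨_, by simp [e_apply, C.ab, C.ab.symm], rfl⟩) hwA)
  have hbA : b ∈ C.A := by
    obtain ⟨x, hx, rfl⟩ := hb; exact C.H0_mem_A ⟨x, by rw [hx.1, hx.2], rfl⟩
  have hbfix : N * b * N⁻¹ = b := by obtain ⟨x, hx, rfl⟩ := hb; exact hNB x hx
  have hαA : α ∈ C.A := by
    rcases hα with rfl | rfl | rfl | rfl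
    exacts [C.A.one_mem, hzA, hwA, C.A.mul_mem hzA hwA]
  have hnorm : α * (N * α * N⁻¹) * (N * (N * α * N⁻¹) * N⁻¹) = 1 := by
    rcases hα with rfl | rfl | rfl | rfl
    · group
    · rw [hNz, hNzw, show C.z * (C.z * w) * w = (C.z * C.z) * (w * w) by group, C.EG_mul_self hzA,
        C.EG_mul_self hwA, mul_one]
    · rw [hNw, hNz, show w * C.z * (C.z * w) = w * (C.z * C.z) * w by group, C.EG_mul_self hzA, mul_one,
        C.EG_mul_self hwA]
    · rw [hNzw, hNw, show C.z * w * w * C.z = C.z * (w * w) * C.z by group, C.EG_mul_self hwA, mul_one,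
        C.EG_mul_self hzA]
  have hvN : v * N = U * N * U := by rw [hvdef]; group
  have hb1 : b = 1 := by
    have h3 : (v * N) ^ 3 = 1 := by
      rw [hvN]
      have := conj_pow (a := U) (b := N) (i := 3)
      rw [hUinv] at this
      rw [this, hN3, mul_one, hU2]
    have hNab : N * v * N⁻¹ = (N * α * N⁻¹) * b := by
      rw [hvab, show N * (α * b) * N⁻¹ = (N * α * N⁻¹) * (N * b * N⁻¹) by group, hbfix]
    have h4 : v * (N * v * N⁻¹) * (N * (N * v * N⁻¹) * N⁻¹) * N ^ 3 = 1 := by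
      rw [← h3]; simp only [pow_succ, pow_zero, one_mul]; group
    rw [hN3, mul_one, hNab, hvab,
      show N * (N * α * N⁻¹ * b) * N⁻¹ = (N * (N * α * N⁻¹) * N⁻¹) * (N * b * N⁻¹) by group, hbfix] at h4
    have hA1 : N * α * N⁻¹ ∈ C.A := by
      rcases hα with rfl | rfl | rfl | rfl
      · simp
      · rw [hNz]; exact C.A.mul_mem hzA hwA
      · rw [hNw]; exact hzA
      · rw [hNzw]; exact hwA
    rw [show α * b * (N * α * N⁻¹ * b) = α * (b * (N * α * N⁻¹)) * b by group, C.A_comm hbA hA1,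
      show α * (N * α * N⁻¹ * b) * b = α * (N * α * N⁻¹) * (b * b) by group, C.EG_mul_self hbA, mul_one,
      ← mul_assoc, hnorm, one_mul] at h4
    exact h4
  rw [hb1, mul_one] at hvab
  -- the translated involution
  obtain ⟨v', hv'A, hv'⟩ : ∃ v', (v' = 1 ∨ v' = C.z ∨ v' = w ∨ v' = C.z * w) ∧ v' * (N * v' * N⁻¹) = v := by
    rw [hvab]
    rcases hα with rfl | rfl | rfl | rfl
    · exact ⟨1, Or.inl rfl, by group⟩
    · exact ⟨C.z * w, Or.inr (Or.inr (Or.inr rfl)), by rw [hNzw, mul_assoc, C.EG_mul_self hwA, mul_one]⟩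
    · exact ⟨C.z, Or.inr (Or.inl rfl), by rw [hNz, ← mul_assoc, C.EG_mul_self hzA, one_mul]⟩
    · exact ⟨w, Or.inr (Or.inr (Or.inl rfl)), by rw [hNw, hzw]⟩
  have hv'm : v' ∈ C.A := by
    rcases hv'A with rfl | rfl | rfl | rfl
    exacts [C.A.one_mem, hzA, hwA, C.A.mul_mem hzA hwA]
  have hUA : ∀ x, (x = C.z ∨ x = w ∨ x = C.z * w ∨ x = 1) → U * x * U = x := by
    rintro x (rfl | rfl | rfl | rfl)
    exacts [hUz, hUw, hUzw, by rw [mul_one, hU2]]
  have hUv' : U * v' * U = v' := hUA v' (by tauto)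
  have hcomm : N * (v' * U) = (v' * U) * N := by
    symm
    calc v' * U * N = v' * (U * N * U) * U⁻¹ := by group
      _ = v' * (v' * (N * v' * N⁻¹) * N) * U := by rw [hv', hvN, hUinv]
      _ = (v' * v') * N * v' * U := by group
      _ = N * (v' * U) := by rw [C.EG_mul_self hv'm]; group
  have hv'01 : v' = 1 ∨ v' = C.z := by
    have he1inv : C.e1⁻¹ = C.e1 := inv_eq_of_mul_eq_one_right C.e1_mul_self
    have hUe' : C.e1 * U * C.e1 = U := by
      calc C.e1 * U * C.e1 = (U * C.e1 * U) * U * C.e1 := by rw [hUe]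
        _ = U * C.e1 * (U * U) * C.e1 := by group
        _ = U := by rw [hU2, mul_one, mul_assoc, C.e1_mul_self, mul_one]
    have h5 : N * ((C.e1 * v' * C.e1) * U) = ((C.e1 * v' * C.e1) * U) * N := by
      have hc5 : Commute N⁻¹ ((C.e1 * v' * C.e1) * U) := by
        have hh : Commute (C.e1 * N * C.e1) (C.e1 * (v' * U) * C.e1) := by
          have := (show Commute N (v' * U) from hcomm).map (MulAut.conj C.e1)
          simpa [he1inv] using this
        rw [hNe, show C.e1 * (v' * U) * C.e1 = (C.e1 * v' * C.e1) * (C.e1⁻¹ * U * C.e1) by group, he1inv,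
          hUe'] at hh
        exact hh
      exact Commute.inv_left_iff.1 hc5
    rcases hv'A with h | h | h | h
    · exact Or.inl h
    · exact Or.inr h
    all_goals exfalso
    · subst h
      rw [C.e1_off hwA C.not_H0_of] at h5
      have hz : N * C.z * N⁻¹ = C.z := by
        have hc5 : Commute N (w * C.z * U * (w * U)⁻¹) :=
          (show Commute N (w * C.z * U) from h5).mul_right (show Commute N (w * U) from hcomm).inv_right
        rw [show w * C.z * U * (w * U)⁻¹ = w * C.z * w⁻¹ by group, hzw, mul_inv_cancel_right] at hc5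
        rw [hc5.eq, mul_inv_cancel_right]
      rw [hNz, mul_eq_left] at hz
      exact C.not_H0_of (hz ▸ (⟨0, rfl, C.ιv_zero⟩ : C.H0 1))
    · subst h
      rw [show C.e1 * (C.z * w) * C.e1 = (C.e1 * C.z * C.e1) * (C.e1⁻¹ * w * C.e1) by group, C.e1_H0 C.z_H0,
        he1inv, C.e1_off hwA C.not_H0_of, hzw, ← mul_assoc C.z C.z, C.EG_mul_self hzA, one_mul] at h5
      have hz : N * C.z * N⁻¹ = C.z := by
        have hc5 : Commute N (w * U * (C.z * w * U)⁻¹) :=
          (show Commute N (w * U) from h5).mul_right (show Commute N (C.z * w * U) from hcomm).inv_right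
        rw [show w * U * (C.z * w * U)⁻¹ = C.z⁻¹ by group, C.A_inv hzA] at hc5
        rw [hc5.eq, mul_inv_cancel_right]
      rw [hNz, mul_eq_left] at hz
      exact C.not_H0_of (hz ▸ (⟨0, rfl, C.ιv_zero⟩ : C.H0 1))
  -- the first factor is conjugate to z under N
  have hsu : C.s * C.ι u = (C.s * C.ιv c) * U := by
    rw [hU, map_mul, mul_assoc, ← mul_assoc (C.ιv c), show C.ι (W.vec c) = C.ιv c from rfl, C.ιv_mul_self,
      one_mul]
  have hW' : C.s * C.ιv c = w ∨ C.s * C.ιv c = C.z * w := by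
    rw [C.s_comm (by rw [hc.1, hc.2]), hw]
    rcases z2_cases i with h | h <;> rw [h]
    · left; rw [zero_smul, add_zero]
    · right
      rw [one_smul, C.ιv_add, ← z, ← mul_assoc, ← mul_assoc, C.A_comm hzA (C.H0_mem_A ⟨c, by rw [hc.1, hc.2], rfl⟩),
        mul_assoc (C.ιv c) C.z C.z, C.EG_mul_self hzA, mul_one]
  have conjz : ∀ x, x = w ∨ x = C.z * w → ∃ m : G, (∀ X, N * X = X * N → m * X = X * m) ∧ m * C.z * m⁻¹ = x := by
    rintro x (rfl | rfl)
    · exact ⟨N * N, fun X hX => (Commute.mul_left (show Commute N X from hX) hX).eq, by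
        rw [show N * N * C.z * (N * N)⁻¹ = N * (N * C.z * N⁻¹) * N⁻¹ by group, hNz, hNzw]⟩
    · exact ⟨N, fun X hX => hX, hNz⟩
  rcases hv'01 with h | h <;> subst h
  · rw [one_mul] at hcomm
    obtain ⟨m, hm, hmz⟩ := conjz _ hW'
    refine ⟨W.vec (e C.a0 + e C.b0) * (W.vec c * u), by simp, ?_⟩
    refine (isConj_iff.2 ⟨m, ?_⟩).symm
    rw [map_mul, ← hU, hsu, ← hmz, show C.ι (W.vec (e C.a0 + e C.b0)) = C.z from rfl,
      show m * (C.z * U) * m⁻¹ = (m * C.z * m⁻¹) * (m * U * m⁻¹) by group, hm U hcomm, mul_inv_cancel_right]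
  · have hx : C.s * C.ιv c * C.z = w ∨ C.s * C.ιv c * C.z = C.z * w := by
      rcases hW' with h | h <;> rw [h]
      · exact Or.inr hzw
      · left; rw [mul_assoc, hzw, ← mul_assoc, C.EG_mul_self hzA, one_mul]
    obtain ⟨m, hm, hmz⟩ := conjz _ hx
    refine ⟨W.vec c * u, hUp, ?_⟩
    refine (isConj_iff.2 ⟨m, ?_⟩).symm
    rw [← hU, hsu]
    calc m * U * m⁻¹ = m * (C.z * (C.z * U)) * m⁻¹ := by rw [← mul_assoc C.z C.z U, C.EG_mul_self hzA, one_mul]
      _ = (m * C.z * m⁻¹) * (m * (C.z * U) * m⁻¹) := by group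
      _ = C.s * C.ιv c * U := by
          rw [hmz, hm _ hcomm, mul_inv_cancel_right, mul_assoc (C.s * C.ιv c), ← mul_assoc C.z,
            C.EG_mul_self hzA, one_mul]

/-- Every involution of the complement is conjugate into the base group. -/
theorem conj_into_E (hgood : C.Good) (x : W n) (hx : x * x = 1) : ∃ v, IsConj (C.ι x) (C.ιv v) := by
  induction hk : x.p.support.card using Nat.strong_induction_on generalizing x with
  | _ k ih =>
  by_cases hp : x.p = 1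
  · exact ⟨x.v, by rw [ιv, ← W.eq_vec_of_p x hp]⟩
  obtain ⟨a, ha⟩ : ∃ a, x.p a ≠ a := by
    by_contra h
    push Not at h
    exact hp (Equiv.ext h)
  let q1 : Equiv.Perm (Blk n) := Equiv.swap a C.a0
  let q : Equiv.Perm (Blk n) := Equiv.swap (q1 (x.p a)) C.b0 * q1
  have hq1 : q a = C.a0 := by
    simp only [q, q1, Equiv.Perm.mul_apply, Equiv.swap_apply_left]
    refine Equiv.swap_apply_of_ne_of_ne (fun h => ha ?_) C.ab
    exact (Equiv.swap a C.a0).injective (h.symm.trans (Equiv.swap_apply_left a C.a0).symm)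
  have hq2 : q (x.p a) = C.b0 := by simp only [q, Equiv.Perm.mul_apply, Equiv.swap_apply_left]
  set x1 := W.prm q * x * (W.prm q)⁻¹ with hx1
  have hx1p : x1.p C.a0 = C.b0 := by
    rw [hx1, W.mul_p, W.mul_p, W.inv_p, W.prm_p, Equiv.Perm.mul_apply, Equiv.Perm.mul_apply,
      Equiv.Perm.inv_def q, show q.symm C.a0 = a by rw [Equiv.symm_apply_eq, hq1], hq2]
  set f := W.vec (x1.v C.a0 • e C.a0) with hf
  set x2 := f * x1 * f⁻¹ with hx2
  have hx22 : x2 * x2 = 1 := by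
    rw [hx2, hx1, show f * (W.prm q * x * (W.prm q)⁻¹) * f⁻¹ * (f * (W.prm q * x * (W.prm q)⁻¹) * f⁻¹) =
      f * W.prm q * (x * x) * (W.prm q)⁻¹ * f⁻¹ by group, hx]
    group
  have hx2p : x2.p = x1.p := by simp [hx2, hf]
  obtain ⟨hpp, hpv⟩ := (W.mul_self_eq_one x2).1 hx22
  have hx2b : x2.p C.b0 = C.a0 := by
    have := congrArg (fun r : Equiv.Perm (Blk n) => r C.a0) hpp
    simp only [Equiv.Perm.mul_apply, Equiv.Perm.one_apply, hx2p, hx1p] at this
    rw [hx2p]; exact this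
  have hpinv : x2.p⁻¹ = x2.p := inv_eq_of_mul_eq_one_right hpp
  have hva : x2.v C.a0 = 0 := by
    have h1 : x1.p⁻¹ C.a0 = C.b0 := by
      rw [← hx2p, hpinv, hx2p]; exact hx1p
    rw [hx2, hf]
    simp only [W.mul_v, W.mul_p, W.vec_v, W.vec_p, W.inv_v, W.inv_p, inv_one, one_mul, act_one, Pi.add_apply,
      Pi.smul_apply, smul_eq_mul, act_apply, h1, e_apply, if_neg C.ab.symm, if_pos]
    rw [mul_one, mul_zero, add_zero, z2_add_self]
  have hvb : x2.v C.b0 = 0 := by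
    have h := congrFun hpv C.a0
    rw [act_apply, hpinv, hx2p, hx1p, hva] at h
    exact h
  set u := W.prm (pswap C.k0) * x2 with hu
  have hsx : x2 = W.prm (pswap C.k0) * u := by
    rw [hu, ← mul_assoc, show W.prm (pswap C.k0) * W.prm (pswap C.k0) = (1 : W n) from
      W.ext (by simp) (by simp [pswap]), one_mul]
  have hcomm : W.prm (pswap C.k0) * x2 = x2 * W.prm (pswap C.k0) := by
    refine W.ext ?_ ?_
    · simp only [W.mul_v, W.prm_v, W.prm_p, act_zero, zero_add, add_zero]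
      exact C.act_pswap_eq (by rw [hva, hvb])
    · simp only [W.mul_p, W.prm_p, show pswap C.k0 = Equiv.swap C.a0 C.b0 from rfl]
      rw [Equiv.mul_swap_eq_swap_mul, show x2.p C.a0 = C.b0 by rw [hx2p, hx1p], hx2b, Equiv.swap_comm]
  have huu : u * u = 1 := by
    rw [hu]
    calc W.prm (pswap C.k0) * x2 * (W.prm (pswap C.k0) * x2)
        = W.prm (pswap C.k0) * (x2 * W.prm (pswap C.k0)) * x2 := by group
      _ = (W.prm (pswap C.k0) * W.prm (pswap C.k0)) * (x2 * x2) := by rw [← hcomm]; group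
      _ = 1 := by rw [hx22, mul_one]; exact W.ext (by simp) (by simp [pswap])
  have hup : u.p = pswap C.k0 * x2.p := rfl
  have hu1 : u.p C.a0 = C.a0 := by
    rw [hup, Equiv.Perm.mul_apply, hx2p, hx1p]; exact Equiv.swap_apply_right _ _
  have hu2 : u.p C.b0 = C.b0 := by
    rw [hup, Equiv.Perm.mul_apply, hx2b]; exact Equiv.swap_apply_left _ _
  have huv : C.Off u.v := by
    have : u.v = x2.v := by
      simp only [hu, W.mul_v, W.prm_v, W.prm_p, zero_add]
      exact C.act_pswap_eq (by rw [hva, hvb])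
    exact ⟨by rw [this, hva], by rw [this, hvb]⟩
  have hconj : IsConj (C.ι x) (C.s * C.ι u) := by
    refine isConj_iff.2 ⟨C.ι (f * W.prm q), ?_⟩
    rw [s, ← map_mul C.ι (W.prm (pswap C.k0)), ← hsx, hx2, hx1, ← map_inv, ← map_mul, ← map_mul]
    congr 1; group
  by_cases h2 : 2 ≤ n
  · obtain ⟨u', hu'p, hu'⟩ := C.remove_swap hgood h2 huu hu1 hu2 huv
    have hlt : u'.p.support.card < k := by
      rw [hu'p, ← hk, ← Equiv.Perm.card_support_conj (σ := q) (τ := x.p)]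
      have e' : q * x.p * q⁻¹ = x2.p := by rw [hx2p]; rfl
      rw [e']
      refine Finset.card_lt_card ((Finset.ssubset_iff_of_subset fun b hb => ?_).2
        ⟨C.a0, Equiv.Perm.mem_support.2 (by rw [hx2p, hx1p]; exact C.ab.symm),
          fun hmem => Equiv.Perm.mem_support.1 hmem hu1⟩)
      rw [Equiv.Perm.mem_support] at hb ⊢
      intro hb'
      have h1 : b ≠ C.a0 := fun h => hb (h ▸ hu1)
      have h2' : b ≠ C.b0 := fun h => hb (h ▸ hu2)
      exact hb (by rw [hup, Equiv.Perm.mul_apply, hb', C.pswap_off h1 h2'])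
    have hu'2 : u' * u' = 1 := by
      obtain ⟨g, hg⟩ := isConj_iff.1 hu'
      refine C.inj ?_
      rw [map_mul, map_one, ← hg]
      have hs : C.s * C.ι u * (C.s * C.ι u) = 1 := by
        rw [s, ← map_mul, ← hsx, ← map_mul, hx22, map_one]
      rw [show g * (C.s * C.ι u) * g⁻¹ * (g * (C.s * C.ι u) * g⁻¹) = g * (C.s * C.ι u * (C.s * C.ι u)) * g⁻¹ by group,
        hs]
      group
    obtain ⟨v, hv⟩ := ih _ hlt u' hu'2 rfl
    exact ⟨v, hconj.trans (hu'.trans hv)⟩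
  · have hn1 : n = 1 := by have := C.hn; omega
    have hall : ∀ b : Blk n, b = C.a0 ∨ b = C.b0 := fun b => C.fst_cases (Fin.ext (by
      have := b.1.2; simp [k0]; omega))
    have hu_one : u = 1 := by
      refine W.ext (funext fun b => ?_) (Equiv.ext fun b => ?_) <;> rcases hall b with rfl | rfl
      exacts [huv.1, huv.2, hu1, hu2]
    rw [hu_one, map_one, mul_one] at hconj
    obtain ⟨g, -, v, -, hv⟩ := C.exists_gs
    exact ⟨v, hconj.trans (isConj_iff.2 ⟨g, hv.symm⟩)⟩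

end Cfg

end Cfsg.Agent.Lib.Inv59.Kondo
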