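import Mathlib

/-!
# The wreath product `Z₂ ≀ Sym (Fin n × Fin 2)` and its large elementary abelian 2-subgroups
-/

set_option autoImplicit false
set_option linter.unusedSectionVars false
set_option linter.style.haveILetI false

namespace Cfsg.Agent.Lib.Inv59.Kondo

/-- The set of blocks, arranged in pairs. -/
abbrev Blk (n : ℕ) := Fin n × Fin 2

/-- Vectors over the field of two elements indexed by the blocks. -/
abbrev Vec (n : ℕ) := Blk n → ZMod 2

/-- The wreath product. -/
@[ext] structure W (n : ℕ) where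
  v : Vec n
  p : Equiv.Perm (Blk n)

variable {n : ℕ}

theorem z2_add_self (x : ZMod 2) : x + x = 0 := CharTwo.add_self_eq_zero x

theorem z2_cases (x : ZMod 2) : x = 0 ∨ x = 1 := by
  revert x; decide

theorem vec_add_self (v : Vec n) : v + v = 0 := funext fun _ => z2_add_self _

theorem vec_eq_iff_add_eq_zero (u v : Vec n) : u + v = 0 ↔ u = v := by
  constructor
  · intro h
    calc u = u + (v + v) := by rw [vec_add_self, add_zero]
      _ = (u + v) + v := by rw [add_assoc]
      _ = v := by rw [h, zero_add]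
  · rintro rfl; exact vec_add_self u

/-- Action of a permutation of blocks on vectors. -/
def act (p : Equiv.Perm (Blk n)) (v : Vec n) : Vec n := fun a => v (p⁻¹ a)

@[simp] theorem act_apply (p : Equiv.Perm (Blk n)) (v : Vec n) (a : Blk n) : act p v a = v (p⁻¹ a) := rfl
@[simp] theorem act_one (v : Vec n) : act 1 v = v := rfl
theorem act_mul (p q : Equiv.Perm (Blk n)) (v : Vec n) : act (p * q) v = act p (act q v) := rfl
theorem act_add (p : Equiv.Perm (Blk n)) (u v : Vec n) : act p (u + v) = act p u + act p v := rfl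
@[simp] theorem act_zero (p : Equiv.Perm (Blk n)) : act p (0 : Vec n) = 0 := rfl
theorem act_one_vec (p : Equiv.Perm (Blk n)) : act p (1 : Vec n) = 1 := rfl
@[simp] theorem act_inv_act (p : Equiv.Perm (Blk n)) (v : Vec n) : act p⁻¹ (act p v) = v := by
  rw [← act_mul, inv_mul_cancel, act_one]

/-- The unit vector of a block. -/
def e (a : Blk n) : Vec n := Pi.single a 1

theorem e_apply (a b : Blk n) : e a b = if b = a then 1 else 0 := Pi.single_apply a (1 : ZMod 2) b

theorem act_e (p : Equiv.Perm (Blk n)) (a : Blk n) : act p (e a) = e (p a) := by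
  funext b
  rw [act_apply, e_apply, e_apply]
  by_cases h : b = p a
  · subst h; rw [if_pos rfl, if_pos (by rw [Equiv.Perm.inv_def, Equiv.symm_apply_apply])]
  · rw [if_neg h, if_neg fun h' => h (by rw [← h', Equiv.Perm.inv_def, Equiv.apply_symm_apply])]

/-- The parity of a vector. -/
def par (v : Vec n) : ZMod 2 := ∑ a, v a

theorem par_add (u v : Vec n) : par (u + v) = par u + par v := Finset.sum_add_distrib

theorem par_act (p : Equiv.Perm (Blk n)) (v : Vec n) : par (act p v) = par v :=
  Equiv.sum_comp p⁻¹ v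

theorem par_e (a : Blk n) : par (e a) = 1 := by
  rw [par, e, Finset.sum_pi_single', if_pos (Finset.mem_univ a)]

theorem par_one : par (1 : Vec n) = 0 := by
  show ∑ _a : Blk n, (1 : ZMod 2) = 0
  rw [Finset.sum_const,
    Finset.card_univ, Fintype.card_prod, Fintype.card_fin, Fintype.card_fin, nsmul_one, Nat.cast_mul]
  exact mul_eq_zero_of_right _ (by decide)

namespace W

instance : Mul (W n) := ⟨fun x y => ⟨x.v + act x.p y.v, x.p * y.p⟩⟩
instance : One (W n) := ⟨⟨0, 1⟩⟩
instance : Inv (W n) := ⟨fun x => ⟨act x.p⁻¹ x.v, x.p⁻¹⟩⟩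

@[simp] theorem mul_v (x y : W n) : (x * y).v = x.v + act x.p y.v := rfl
@[simp] theorem mul_p (x y : W n) : (x * y).p = x.p * y.p := rfl
@[simp] theorem one_v : (1 : W n).v = 0 := rfl
@[simp] theorem one_p : (1 : W n).p = 1 := rfl
@[simp] theorem inv_v (x : W n) : (x⁻¹).v = act x.p⁻¹ x.v := rfl
@[simp] theorem inv_p (x : W n) : (x⁻¹).p = x.p⁻¹ := rfl

instance : Group (W n) := Group.ofLeftAxioms
  (fun x y z => W.ext (by simp only [mul_v, mul_p, act_add, act_mul, add_assoc])
    (by simp only [mul_p, mul_assoc]))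
  (fun x => W.ext (by simp only [mul_v, one_v, one_p, act_one, zero_add]) (by simp only [mul_p, one_p, one_mul]))
  (fun x => W.ext (by simp only [mul_v, inv_v, inv_p, one_v]; exact vec_add_self _)
    (by simp only [mul_p, inv_p, one_p, inv_mul_cancel]))

instance : Finite (W n) :=
  Finite.of_injective (fun x : W n => (x.v, x.p)) fun x y h => W.ext (congrArg Prod.fst h) (congrArg Prod.snd h)

/-- The permutation part. -/
def perm : W n →* Equiv.Perm (Blk n) where
  toFun x := x.p
  map_one' := rfl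
  map_mul' _ _ := rfl

/-- The parity of the vector part. -/
def sgnV (x : W n) : ZMod 2 := par x.v

theorem sgnV_mul (x y : W n) : sgnV (x * y) = sgnV x + sgnV y := by
  rw [sgnV, mul_v, par_add, par_act]; rfl

/-- A vector, as an element. -/
def vec (v : Vec n) : W n := ⟨v, 1⟩

@[simp] theorem vec_v (v : Vec n) : (vec v).v = v := rfl
@[simp] theorem vec_p (v : Vec n) : (vec v).p = 1 := rfl
theorem vec_add (u v : Vec n) : vec (u + v) = vec u * vec v := W.ext (by simp) (by simp)
theorem vec_zero : vec (0 : Vec n) = 1 := rfl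
theorem vec_mul_self (v : Vec n) : vec v * vec v = 1 := by rw [← vec_add, vec_add_self, vec_zero]

/-- A permutation, as an element. -/
def prm (p : Equiv.Perm (Blk n)) : W n := ⟨0, p⟩

@[simp] theorem prm_v (p : Equiv.Perm (Blk n)) : (prm p).v = 0 := rfl
@[simp] theorem prm_p (p : Equiv.Perm (Blk n)) : (prm p).p = p := rfl

theorem conj_vec (x : W n) (v : Vec n) : x * vec v * x⁻¹ = vec (act x.p v) := by
  refine W.ext ?_ (by simp)
  simp only [mul_v, mul_p, vec_v, vec_p, inv_v, mul_one, ← act_mul, mul_inv_cancel, act_one]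
  rw [add_right_comm, vec_add_self, zero_add]

theorem eq_vec_of_p (x : W n) (h : x.p = 1) : x = vec x.v := W.ext rfl h

theorem mul_self_eq_one (x : W n) : x * x = 1 ↔ x.p * x.p = 1 ∧ act x.p x.v = x.v := by
  rw [W.ext_iff, mul_v, mul_p, one_v, one_p, vec_eq_iff_add_eq_zero]
  exact ⟨fun h => ⟨h.2, h.1.symm⟩, fun h => ⟨h.2.symm, h.1⟩⟩

theorem comm_iff (x y : W n) :
    x * y = y * x ↔ x.v + act x.p y.v = y.v + act y.p x.v ∧ x.p * y.p = y.p * x.p := by
  rw [W.ext_iff]; rfl

theorem commute_vec_iff (x : W n) (v : Vec n) : x * vec v = vec v * x ↔ act x.p v = v := by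
  rw [← mul_inv_eq_iff_eq_mul, conj_vec]
  exact ⟨fun h => congrArg W.v h, fun h => congrArg vec h⟩

end W

/-- The partner block. -/
def mate (a : Blk n) : Blk n := (a.1, 1 - a.2)

@[simp] theorem mate_fst (a : Blk n) : (mate a).1 = a.1 := rfl

theorem mate_ne (a : Blk n) : mate a ≠ a := by
  intro h
  have h2 : 1 - a.2 = a.2 := congrArg Prod.snd h
  revert h2; generalize a.2 = j; revert j; decide

@[simp] theorem mate_mate (a : Blk n) : mate (mate a) = a := by
  refine Prod.ext rfl ?_
  show 1 - (1 - a.2) = a.2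
  generalize a.2 = j; revert j; decide

theorem eq_or_mate {a b : Blk n} (h : b.1 = a.1) : b = a ∨ b = mate a := by
  have h2 : b.2 = a.2 ∨ b.2 = 1 - a.2 := by
    generalize a.2 = j; generalize b.2 = i; revert i j; decide
  rcases h2 with h2 | h2
  · exact Or.inl (Prod.ext h h2)
  · exact Or.inr (Prod.ext h h2)

/-- The swap of the two blocks of a pair. -/
def pswap (k : Fin n) : Equiv.Perm (Blk n) := Equiv.swap (k, 0) (k, 1)

theorem pswap_apply (k : Fin n) (a : Blk n) : pswap k a = if a.1 = k then mate a else a := by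
  obtain ⟨i, j⟩ := a
  unfold pswap
  by_cases h : i = k
  · subst h
    rw [if_pos rfl]
    fin_cases j
    · exact Equiv.swap_apply_left _ _
    · exact Equiv.swap_apply_right _ _
  · rw [if_neg h]
    exact Equiv.swap_apply_of_ne_of_ne (fun h' => h (congrArg Prod.fst h')) (fun h' => h (congrArg Prod.fst h'))

theorem swap_mate (a : Blk n) : Equiv.swap a (mate a) = pswap a.1 := by
  obtain ⟨i, j⟩ := a
  fin_cases j
  · rfl
  · exact Equiv.swap_comm _ _

/-- The base group of the pairs: elements fixing every pair. -/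
def pairGroup (n : ℕ) : Subgroup (W n) where
  carrier := {x | ∀ a, (x.p a).1 = a.1}
  one_mem' := fun _ => rfl
  mul_mem' := fun {x y} hx hy a => by rw [W.mul_p, Equiv.Perm.mul_apply, hx, hy]
  inv_mem' := fun {x} hx a => by
    have := hx (x.p⁻¹ a)
    rw [Equiv.Perm.inv_def, Equiv.apply_symm_apply] at this
    rw [W.inv_p, Equiv.Perm.inv_def]; exact this.symm

theorem mem_pairGroup {x : W n} : x ∈ pairGroup n ↔ ∀ a, (x.p a).1 = a.1 := Iff.rfl

theorem isPGroup_pairGroup : IsPGroup 2 (pairGroup n) := by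
  intro x
  refine ⟨2, Subtype.ext ?_⟩
  have hp : (x : W n).p * (x : W n).p = 1 := Equiv.ext fun a => by
    rcases eq_or_mate (x.2 a) with h | h
    · rw [Equiv.Perm.mul_apply, h, h]; rfl
    · rcases eq_or_mate (x.2 (mate a)) with h' | h'
      · exact absurd ((x : W n).p.injective (h'.trans h.symm)) (mate_ne a)
      · rw [mate_mate] at h'
        rw [Equiv.Perm.mul_apply, h, h']; rfl
  show ((x : W n)) ^ 4 = 1
  have h2 : (x : W n) ^ 2 = W.vec ((x : W n) ^ 2).v :=
    W.eq_vec_of_p _ (by rw [pow_two, W.mul_p, hp])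
  rw [show (4 : ℕ) = 2 * 2 from rfl, pow_mul, h2, pow_two, W.vec_mul_self]

theorem pswap_mem (k : Fin n) : W.prm (pswap k) ∈ pairGroup n := fun a => by
  rw [W.prm_p, pswap_apply]; split_ifs <;> simp

/-! ## The large elementary abelian subgroups -/

/-- The elementary abelian subgroup attached to a set of pairs. -/
def EK (K : Finset (Fin n)) : Subgroup (W n) where
  carrier := {x | (∀ a, x.p a = a ∨ a.1 ∈ K ∧ x.p a = mate a) ∧ ∀ a, a.1 ∈ K → x.v (mate a) = x.v a}
  one_mem' := ⟨fun _ => Or.inl rfl, fun _ _ => rfl⟩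
  mul_mem' := by
    rintro x y ⟨hx, hxv⟩ ⟨hy, hyv⟩
    refine ⟨fun a => ?_, fun a ha => ?_⟩
    · rcases hy a with h | ⟨ha, h⟩
      · rcases hx a with h' | ⟨ha', h'⟩
        · exact Or.inl (by rw [W.mul_p, Equiv.Perm.mul_apply, h, h'])
        · exact Or.inr ⟨ha', by rw [W.mul_p, Equiv.Perm.mul_apply, h, h']⟩
      · rcases hx (mate a) with h' | ⟨-, h'⟩
        · exact Or.inr ⟨ha, by rw [W.mul_p, Equiv.Perm.mul_apply, h, h']⟩
        · exact Or.inl (by rw [W.mul_p, Equiv.Perm.mul_apply, h, h', mate_mate])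
    · have key : ∀ b, b.1 ∈ K → y.v (x.p⁻¹ b) = y.v b := fun b hb => by
        rcases hx (x.p⁻¹ b) with h | ⟨hc, h⟩ <;>
          rw [Equiv.Perm.inv_def, Equiv.apply_symm_apply] at h <;> rw [Equiv.Perm.inv_def]
        · rw [← h]
        · rw [Equiv.Perm.inv_def] at hc
          calc y.v (x.p.symm b) = y.v (mate (x.p.symm b)) := (hyv _ hc).symm
            _ = y.v b := by rw [← h]
      simp only [W.mul_v, Pi.add_apply, act_apply]
      rw [key a ha, key (mate a) (by simpa using ha), hxv a ha, hyv a ha]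
  inv_mem' := by
    rintro x ⟨hx, hxv⟩
    have hinv : x.p⁻¹ = x.p := inv_eq_of_mul_eq_one_right (Equiv.ext fun a => by
      rw [Equiv.Perm.mul_apply, Equiv.Perm.one_apply]
      rcases hx a with h | ⟨ha, h⟩
      · rw [h, h]
      · rcases hx (mate a) with h' | ⟨-, h'⟩
        · exact absurd (x.p.injective (h'.trans h.symm)) (mate_ne a)
        · rw [h, h', mate_mate])
    refine ⟨fun a => ?_, fun a ha => ?_⟩
    · rw [W.inv_p, hinv]; exact hx a
    · rw [W.inv_v, hinv, act_apply, act_apply, hinv]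
      rcases hx a with h | ⟨-, h⟩
      · rcases hx (mate a) with h' | ⟨-, h'⟩
        · rw [h, h', hxv a ha]
        · rw [mate_mate] at h'
          exact absurd (x.p.injective (h'.trans h.symm)) (mate_ne a)
      · rcases hx (mate a) with h' | ⟨-, h'⟩
        · exact absurd (x.p.injective (h'.trans h.symm)) (mate_ne a)
        · rw [h, h', mate_mate, hxv a ha]

theorem mem_EK {K : Finset (Fin n)} {x : W n} : x ∈ EK K ↔
    (∀ a, x.p a = a ∨ a.1 ∈ K ∧ x.p a = mate a) ∧ ∀ a, a.1 ∈ K → x.v (mate a) = x.v a := Iff.rfl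

theorem EK_le_pairGroup (K : Finset (Fin n)) : EK K ≤ pairGroup n := fun x hx a => by
  rcases hx.1 a with h | ⟨-, h⟩ <;> rw [h]
  rfl

theorem EK_mul_self {K : Finset (Fin n)} {x : W n} (hx : x ∈ EK K) : x * x = 1 := by
  have hinv : x.p * x.p = 1 := Equiv.ext fun a => by
    rw [Equiv.Perm.mul_apply, Equiv.Perm.one_apply]
    rcases hx.1 a with h | ⟨ha, h⟩
    · rw [h, h]
    · rcases hx.1 (mate a) with h' | ⟨-, h'⟩
      · exact absurd (x.p.injective (h'.trans h.symm)) (mate_ne a)
      · rw [h, h', mate_mate]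
  refine (W.mul_self_eq_one x).2 ⟨hinv, funext fun a => ?_⟩
  rw [act_apply, inv_eq_of_mul_eq_one_right hinv]
  rcases hx.1 a with h | ⟨ha, h⟩
  · rw [h]
  · rw [h, hx.2 a ha]

theorem vec_mem_EK_empty (v : Vec n) : W.vec v ∈ EK (∅ : Finset (Fin n)) :=
  ⟨fun _ => Or.inl rfl, fun _ ha => absurd ha (Finset.notMem_empty _)⟩

theorem mem_EK_empty {x : W n} : x ∈ EK (∅ : Finset (Fin n)) ↔ x.p = 1 :=
  ⟨fun h => Equiv.ext fun a => by
    rcases h.1 a with h' | ⟨ha, -⟩
    · exact h'
    · exact absurd ha (Finset.notMem_empty _),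
   fun h => by rw [W.eq_vec_of_p x h]; exact vec_mem_EK_empty _⟩

/-- Coordinates on the intersection of two of them. -/
theorem card_EK_inf (K L : Finset (Fin n)) :
    Nat.card ↥(EK K ⊓ EK L) = 2 ^ (2 * n - (symmDiff K L).card) := by
  classical
  set D := symmDiff K L with hD
  let I' := {a : Blk n // ¬ (a.1 ∈ D ∧ a.2 = 1)}
  let f : ↥(EK K ⊓ EK L) → I' → ZMod 2 := fun x a =>
    if a.1.1 ∈ K ∧ a.1.1 ∈ L ∧ a.1.2 = 1 then (if (x : W n).p a.1 = a.1 then 0 else 1) else (x : W n).v a.1
  have hf : Function.Bijective f := by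
    constructor
    · intro x y h
      obtain ⟨⟨hxK, hxKv⟩, ⟨hxL, hxLv⟩⟩ := x.2
      obtain ⟨⟨hyK, hyKv⟩, ⟨hyL, hyLv⟩⟩ := y.2
      have hmove : ∀ z : ↥(EK K ⊓ EK L), ∀ a : Blk n, (z : W n).p a ≠ a → a.1 ∈ K ∧ a.1 ∈ L ∧ (z : W n).p a = mate a := by
        intro z a hza
        obtain ⟨⟨hzK, -⟩, ⟨hzL, -⟩⟩ := z.2
        rcases hzK a with h1 | ⟨h1, h1'⟩
        · exact absurd h1 hza
        rcases hzL a with h2 | ⟨h2, -⟩
        · exact absurd h2 hza
        exact ⟨h1, h2, h1'⟩
      have hsame : ∀ a : Blk n, a.1 ∈ K → a.1 ∈ L → ((x : W n).p a = a ↔ (y : W n).p a = a) := by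
        intro a haK haL
        have base : ∀ k : Fin n, k ∈ K → k ∈ L →
            ((x : W n).p (k, 1) = (k, 1) ↔ (y : W n).p (k, 1) = (k, 1)) := by
          intro k hk hk'
          have := congrFun h ⟨(k, 1), fun hh => by
            simp only [hD, Finset.mem_symmDiff] at hh; tauto⟩
          simp only [f, hk, hk', and_self, if_true] at this
          split_ifs at this with h1 h2 <;> simp_all
        have hfl : ∀ z : ↥(EK K ⊓ EK L), ((z : W n).p a = a ↔ (z : W n).p (mate a) = mate a) := by
          intro z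
          constructor
          · intro hz
            by_contra hne
            have h' := (hmove z _ hne).2.2
            rw [mate_mate] at h'
            exact mate_ne a ((z : W n).p.injective (h'.trans hz.symm))
          · intro hz
            by_contra hne
            have h' := (hmove z _ hne).2.2
            exact mate_ne a ((z : W n).p.injective (hz.trans h'.symm))
        obtain ⟨k, j⟩ := a
        fin_cases j
        · rw [hfl x, hfl y]; exact base k haK haL
        · exact base k haK haL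
      have hp : (x : W n).p = (y : W n).p := by
        refine Equiv.ext fun a => ?_
        by_cases h1 : (x : W n).p a = a
        · by_cases h2 : (y : W n).p a = a
          · rw [h1, h2]
          · obtain ⟨hK, hL, -⟩ := hmove y a h2
            exact absurd ((hsame a hK hL).1 h1) h2
        · obtain ⟨hK, hL, h1'⟩ := hmove x a h1
          obtain ⟨-, -, h2'⟩ := hmove y a fun h2 => h1 ((hsame a hK hL).2 h2)
          rw [h1', h2']
      have hv0 : ∀ k : Fin n, (x : W n).v (k, 0) = (y : W n).v (k, 0) := fun k => by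
        have := congrFun h ⟨(k, 0), fun hh => absurd (show (0 : Fin 2) = 1 from hh.2) (by decide)⟩
        simpa [f] using this
      refine Subtype.ext (W.ext (funext fun a => ?_) hp)
      obtain ⟨k, j⟩ := a
      fin_cases j
      · exact hv0 k
      · show (x : W n).v (k, 1) = (y : W n).v (k, 1)
        by_cases hk : k ∈ K
        · exact (hxKv (k, 0) hk).trans ((hv0 k).trans (hyKv (k, 0) hk).symm)
        by_cases hl : k ∈ L
        · exact (hxLv (k, 0) hl).trans ((hv0 k).trans (hyLv (k, 0) hl).symm)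
        have := congrFun h ⟨(k, 1), fun hh => by
          simp only [hD, Finset.mem_symmDiff] at hh; tauto⟩
        simpa [f, hk] using this
    · intro g
      have ok0 : ∀ k : Fin n, ¬ (((k, 0) : Blk n).1 ∈ D ∧ ((k, 0) : Blk n).2 = 1) :=
        fun k hh => absurd (show (0 : Fin 2) = 1 from hh.2) (by decide)
      let mv : Fin n → Prop := fun k => ∃ (hh : ¬ (((k, 1) : Blk n).1 ∈ D ∧ ((k, 1) : Blk n).2 = 1)),
        k ∈ K ∧ k ∈ L ∧ g ⟨(k, 1), hh⟩ = 1
      let q : Blk n → Blk n := fun a => if mv a.1 then mate a else a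
      have hq : ∀ a, q (q a) = a := fun a => by
        by_cases h1 : mv a.1
        · simp [q, h1]
        · simp [q, h1]
      let v : Vec n := fun a => if hh : a.1 ∈ K ∨ a.1 ∈ L then g ⟨(a.1, 0), ok0 a.1⟩
        else g ⟨a, fun h' => by simp only [hD, Finset.mem_symmDiff] at h'; tauto⟩
      have hvmate : ∀ a : Blk n, (a.1 ∈ K ∨ a.1 ∈ L) → v (mate a) = v a := fun a ha => by
        simp [v, ha]
      have hqa : ∀ (M : Finset (Fin n)), (∀ k, mv k → k ∈ M) → ∀ a : Blk n,
          q a = a ∨ a.1 ∈ M ∧ q a = mate a := fun M hM a => by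
        by_cases h1 : mv a.1
        · exact Or.inr ⟨hM _ h1, by simp [q, h1]⟩
        · exact Or.inl (by simp [q, h1])
      refine ⟨⟨⟨v, ⟨q, q, hq, hq⟩⟩, ⟨hqa K fun k hk => hk.2.1, fun a ha => hvmate a (Or.inl ha)⟩,
        ⟨hqa L fun k hk => hk.2.2.1, fun a ha => hvmate a (Or.inr ha)⟩⟩, funext fun a => ?_⟩
      obtain ⟨⟨k, j⟩, ha⟩ := a
      by_cases hc : k ∈ K ∧ k ∈ L ∧ j = 1
      · obtain ⟨hk, hl, rfl⟩ := hc
        simp only [f, hk, hl, and_self, if_true, Equiv.coe_fn_mk]
        rcases z2_cases (g ⟨(k, 1), ha⟩) with h0 | h1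
        · rw [h0, if_pos]
          simp only [q]
          rw [if_neg]
          rintro ⟨hh, -, -, h1⟩
          rw [h0] at h1; exact zero_ne_one h1
        · rw [h1, if_neg]
          simp only [q]
          rw [if_pos ⟨ha, hk, hl, h1⟩]
          exact mate_ne _
      · simp only [f, hc, if_false, v]
        by_cases hh : k ∈ K ∨ k ∈ L
        · rw [dif_pos hh]
          have hj : j = 0 := by
            by_contra hj
            have hj' : j = 1 := by omega
            subst hj'
            refine ha ⟨?_, rfl⟩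
            simp only [hD, Finset.mem_symmDiff]; tauto
          subst hj; rfl
        · rw [dif_neg hh]
  rw [Nat.card_congr (Equiv.ofBijective f hf), Nat.card_fun, Nat.card_eq_fintype_card,
    Nat.card_eq_fintype_card, ZMod.card]
  congr 1
  have hc : Fintype.card {a : Blk n // a.1 ∈ D ∧ a.2 = 1} = D.card := by
    rw [Fintype.card_subtype, ← Finset.card_image_of_injective D (f := fun k : Fin n => ((k, 1) : Blk n))
      fun k l h => congrArg Prod.fst h]
    congr 1
    ext ⟨k, j⟩
    simp [eq_comm]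
  rw [Fintype.card_subtype_compl, hc, Fintype.card_prod, Fintype.card_fin, Fintype.card_fin, mul_comm]

theorem card_EK (K : Finset (Fin n)) : Nat.card (EK K) = 2 ^ (2 * n) := by
  have := card_EK_inf K K
  rwa [inf_idem, symmDiff_self, Finset.bot_eq_empty, Finset.card_empty, Nat.sub_zero] at this

/-- In a 2-group containing the swaps of the pairs, every transposition is one of them. -/
theorem transposition_eq_pswap {P : Subgroup (Equiv.Perm (Blk n))} (hP : IsPGroup 2 P)
    (hps : ∀ k, pswap k ∈ P) {a b : Blk n} (hab : a ≠ b) (h : Equiv.swap a b ∈ P) : b = mate a := by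
  by_contra hb
  have h1 : Equiv.swap a b * Equiv.swap a (mate a) ∈ P := P.mul_mem h (by rw [swap_mate]; exact hps _)
  have h3 : (Equiv.swap a b * Equiv.swap a (mate a)).IsThreeCycle :=
    Equiv.Perm.isThreeCycle_swap_mul_swap_same hab (mate_ne a).symm hb
  obtain ⟨j, hj⟩ := IsPGroup.iff_orderOf.1 hP ⟨_, h1⟩
  rw [Subgroup.orderOf_mk, h3.orderOf] at hj
  have : (3 : ℕ) ∣ 2 := Nat.prime_three.dvd_of_dvd_pow (dvd_of_eq hj)
  omega

theorem two_mul_le_two_pow (c : ℕ) (hc : 1 ≤ c) : 2 * c ≤ 2 ^ c := by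
  induction c, hc using Nat.le_induction with
  | base => norm_num
  | succ c hc ih => rw [pow_succ]; omega

theorem two_mul_lt_two_pow (c : ℕ) (hc : 3 ≤ c) : 2 * c < 2 ^ c := by
  induction c, hc using Nat.le_induction with
  | base => norm_num
  | succ c hc ih => rw [pow_succ]; omega

/-- An elementary abelian subgroup of largest order, inside a 2-subgroup containing the pair
group, is one of the `EK`. -/
theorem exists_eq_EK {T : Subgroup (W n)} (hT : IsPGroup 2 T) (hJ : pairGroup n ≤ T)
    {A : Subgroup (W n)} (hAT : A ≤ T) (hA : ∀ x ∈ A, x * x = 1)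
    (hcard : 2 ^ (2 * n) ≤ Nat.card A) : ∃ K, A = EK K := by
  classical
  set P := A.map W.perm with hP
  set PT := T.map W.perm with hPTdef
  have hPT : IsPGroup 2 PT := hT.map _
  have hps : ∀ k, pswap k ∈ PT := fun k => ⟨_, hJ (pswap_mem k), rfl⟩
  have hcomm : ∀ x ∈ A, ∀ y ∈ A, x * y = y * x := fun x hx y hy => by
    have h := hA _ (A.mul_mem hx hy)
    calc x * y = (x * y)⁻¹ := (inv_eq_of_mul_eq_one_right h).symm
      _ = y⁻¹ * x⁻¹ := mul_inv_rev x y
      _ = y * x := by rw [inv_eq_of_mul_eq_one_right (hA x hx), inv_eq_of_mul_eq_one_right (hA y hy)]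
  have hPc : ∀ p ∈ P, ∀ q ∈ P, p * q = q * p := by
    rintro _ ⟨x, hx, rfl⟩ _ ⟨y, hy, rfl⟩
    rw [← map_mul, hcomm x hx y hy, map_mul]
  let Ω := Quotient (MulAction.orbitRel P (Blk n))
  haveI : Fintype Ω := Fintype.ofFinite _
  let orb : Ω → Type := fun o => MulAction.orbit P o.out
  -- vectors of A
  let Av : Type := {v : Vec n // W.vec v ∈ A}
  have hAv : ∀ v : Vec n, W.vec v ∈ A → ∀ p ∈ P, act p v = v := by
    rintro v hv _ ⟨x, hx, rfl⟩
    exact (W.commute_vec_iff x v).1 (hcomm x hx _ hv)
  have hconst : ∀ v : Vec n, W.vec v ∈ A → ∀ o : Ω, ∀ b ∈ MulAction.orbit P o.out, v b = v o.out := by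
    rintro v hv o _ ⟨p, rfl⟩
    have h := congrFun (hAv v hv p p.2) ((p : Equiv.Perm (Blk n)) o.out)
    rw [act_apply, Equiv.Perm.inv_def, Equiv.symm_apply_apply] at h
    exact h.symm
  have hrep : ∀ a : Blk n, a ∈ MulAction.orbit P (Quotient.mk (MulAction.orbitRel P (Blk n)) a).out :=
    fun a => MulAction.orbitRel_apply.1 (Quotient.exact (Quotient.out_eq _).symm)
  let f1 : Av → Ω → ZMod 2 := fun v o => v.1 o.out
  have hf1 : Function.Injective f1 := fun u v h => Subtype.ext (funext fun a => by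
    rw [hconst u.1 u.2 _ a (hrep a), hconst v.1 v.2 _ a (hrep a)]
    exact congrFun h _)
  let f2 : P → (o : Ω) → orb o := fun p o => ⟨p • o.out, MulAction.mem_orbit _ _⟩
  have hf2 : Function.Injective f2 := fun p q h => Subtype.ext (Equiv.ext fun a => by
    obtain ⟨r, hr⟩ := hrep a
    set o := Quotient.mk (MulAction.orbitRel P (Blk n)) a with ho
    have h1 : (p : Equiv.Perm (Blk n)) o.out = (q : Equiv.Perm (Blk n)) o.out :=
      congrArg Subtype.val (congrFun h o)
    have h2 : ((r : Equiv.Perm (Blk n))) o.out = a := hr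
    calc (p : Equiv.Perm (Blk n)) a = ((p : Equiv.Perm (Blk n)) * r) o.out := by rw [Equiv.Perm.mul_apply, h2]
      _ = (r : Equiv.Perm (Blk n)) ((p : Equiv.Perm (Blk n)) o.out) := by rw [hPc _ p.2 _ r.2]; rfl
      _ = (r : Equiv.Perm (Blk n)) ((q : Equiv.Perm (Blk n)) o.out) := by rw [h1]
      _ = ((q : Equiv.Perm (Blk n)) * r) o.out := by rw [hPc _ q.2 _ r.2]; rfl
      _ = (q : Equiv.Perm (Blk n)) a := by rw [Equiv.Perm.mul_apply, h2])
  -- count
  have hcA : Nat.card A = Nat.card Av * Nat.card P := by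
    let φ : A →* Equiv.Perm (Blk n) := W.perm.comp A.subtype
    have e1 : Nat.card φ.ker = Nat.card Av := Nat.card_congr
      { toFun := fun x => ⟨(x.1 : W n).v, by
          rw [← W.eq_vec_of_p (x.1 : W n) x.2]; exact x.1.2⟩
        invFun := fun v => ⟨⟨W.vec v.1, v.2⟩, rfl⟩
        left_inv := fun x => Subtype.ext (Subtype.ext (W.eq_vec_of_p _ x.2).symm)
        right_inv := fun v => rfl }
    have e2 : φ.range = P := by
      ext q; exact ⟨fun ⟨x, hx⟩ => ⟨x, x.2, hx⟩, fun ⟨x, hx, h⟩ => ⟨⟨x, hx⟩, h⟩⟩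
    rw [← e1, ← e2, ← Subgroup.index_ker, Subgroup.card_mul_index]
  haveI : ∀ o, Fintype (orb o) := fun o => Fintype.ofFinite _
  have hb1 : Nat.card Av ≤ 2 ^ Fintype.card Ω := by
    refine (Nat.card_le_card_of_injective f1 hf1).trans ?_
    rw [Nat.card_fun, Nat.card_eq_fintype_card, Nat.card_eq_fintype_card, ZMod.card]
  have hb2 : Nat.card P ≤ ∏ o, Nat.card (orb o) := by
    refine (Nat.card_le_card_of_injective f2 hf2).trans ?_
    rw [Nat.card_pi]
  have hsum : ∑ o, Nat.card (orb o) = 2 * n := by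
    rw [← Nat.card_sigma, ← Nat.card_congr (MulAction.selfEquivSigmaOrbits P (Blk n)), Nat.card_prod,
      Nat.card_fin, Nat.card_fin, mul_comm]
  have hpow : ∏ o, 2 ^ Nat.card (orb o) = 2 ^ (2 * n) := by rw [Finset.prod_pow_eq_pow_sum, hsum]
  have hpos : ∀ o, 1 ≤ Nat.card (orb o) := fun o => by
    haveI : Nonempty (orb o) := ⟨⟨o.out, MulAction.mem_orbit_self _⟩⟩
    exact Nat.card_pos
  have hchain : 2 ^ (2 * n) ≤ ∏ o, 2 * Nat.card (orb o) := by
    rw [Finset.prod_mul_distrib, Finset.prod_const, Finset.card_univ]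
    exact hcard.trans (hcA.le.trans (Nat.mul_le_mul hb1 hb2))
  have hle2 : ∀ o, Nat.card (orb o) ≤ 2 := by
    by_contra hne
    push Not at hne
    obtain ⟨o, ho⟩ := hne
    have : ∏ o, 2 * Nat.card (orb o) < ∏ o, 2 ^ Nat.card (orb o) :=
      Finset.prod_lt_prod (fun o _ => by have := hpos o; omega) (fun o _ => two_mul_le_two_pow _ (hpos o))
        ⟨o, Finset.mem_univ _, two_mul_lt_two_pow _ ho⟩
    rw [hpow] at this
    exact absurd hchain (not_le.2 this)
  have hPeq : Nat.card P = ∏ o, Nat.card (orb o) := by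
    refine le_antisymm hb2 ?_
    have h1 : ∏ o, 2 * Nat.card (orb o) ≤ 2 ^ (2 * n) := by
      rw [← hpow]; exact Finset.prod_le_prod' fun o _ => two_mul_le_two_pow _ (hpos o)
    rw [Finset.prod_mul_distrib, Finset.prod_const, Finset.card_univ] at h1
    refine Nat.le_of_mul_le_mul_left (h1.trans (hcard.trans (hcA.le.trans (Nat.mul_le_mul_right _ hb1)))) ?_
    positivity
  have hsurj : Function.Surjective f2 :=
    ((Nat.bijective_iff_injective_and_card f2).2 ⟨hf2, by rw [hPeq, Nat.card_pi]⟩).2
  -- transpositions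
  have hswap : ∀ p ∈ P, ∀ a, p a ≠ a → Equiv.swap a (p a) ∈ P ∧ p a = mate a := by
    intro p hp a hne
    set o := Quotient.mk (MulAction.orbitRel P (Blk n)) a with ho
    have h2 : ∀ x y z : orb o, x = y ∨ x = z ∨ y = z := by
      intro x y z
      by_contra hh
      push Not at hh
      have h3 : ({x, y, z} : Finset (orb o)).card = 3 := by
        rw [Finset.card_insert_of_notMem (by simp [hh.1, hh.2.1]), Finset.card_pair hh.2.2]
      have h4 := Finset.card_le_univ ({x, y, z} : Finset (orb o))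
      rw [h3, ← Nat.card_eq_fintype_card] at h4
      have := hle2 o; omega
    obtain ⟨r, hr⟩ := hrep a
    have hra : (r : Equiv.Perm (Blk n)) o.out = a := hr
    have hpa : p a ∈ MulAction.orbit P o.out := ⟨⟨p, hp⟩ * r, by
      show p ((r : Equiv.Perm (Blk n)) o.out) = p a; rw [hra]⟩
    have hin : ∀ b ∈ MulAction.orbit P o.out, b = a ∨ b = p a := fun b hb => by
      rcases h2 ⟨b, hb⟩ ⟨a, hrep a⟩ ⟨p a, hpa⟩ with h | h | h
      · exact Or.inl (congrArg Subtype.val h)
      · exact Or.inr (congrArg Subtype.val h)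
      · exact absurd (congrArg Subtype.val h).symm hne
    have hmem : Equiv.swap a (p a) ∈ P := by
      obtain ⟨q, hq⟩ := hsurj fun o' => if h : o' = o then
        ⟨if o'.out = a then p a else a, by subst h; split_ifs; exacts [hpa, hrep a]⟩
        else ⟨o'.out, MulAction.mem_orbit_self _⟩
      suffices (q : Equiv.Perm (Blk n)) = Equiv.swap a (p a) from this ▸ q.2
      refine Equiv.ext fun b => ?_
      obtain ⟨r', hr'⟩ := hrep b
      set o' := Quotient.mk (MulAction.orbitRel P (Blk n)) b with ho'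
      have hr'' : (r' : Equiv.Perm (Blk n)) o'.out = b := hr'
      have hqo : (q : Equiv.Perm (Blk n)) o'.out =
          if o' = o then (if o'.out = a then p a else a) else o'.out := by
        have h := congrArg Subtype.val (congrFun hq o')
        by_cases h' : o' = o
        · rw [dif_pos h'] at h; rw [if_pos h']; exact h
        · rw [dif_neg h'] at h; rw [if_neg h']; exact h
      have hqb : (q : Equiv.Perm (Blk n)) b = (r' : Equiv.Perm (Blk n)) ((q : Equiv.Perm (Blk n)) o'.out) := by
        conv_lhs => rw [← hr'']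
        rw [← Equiv.Perm.mul_apply, hPc _ q.2 _ r'.2, Equiv.Perm.mul_apply]
      by_cases h' : o' = o
      · rw [if_pos h'] at hqo
        have hb : b = a ∨ b = p a := hin b (h' ▸ hrep b)
        have hout : o'.out = a ∨ o'.out = p a := hin _ (h' ▸ MulAction.mem_orbit_self _)
        rw [hqb, hqo]
        rcases hout with hou | hou
        · rw [if_pos hou]
          rw [hou] at hr''
          rcases hb with hb | hb <;> rw [hb] at hr'' ⊢
          · rw [Equiv.swap_apply_left]
            have hrp : (r' : Equiv.Perm (Blk n)) (p a) = p ((r' : Equiv.Perm (Blk n)) a) := by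
              rw [← Equiv.Perm.mul_apply, hPc _ r'.2 _ hp]; rfl
            rw [hrp, hr'']
          · rw [Equiv.swap_apply_right]
            rcases hin ((r' : Equiv.Perm (Blk n)) (p a)) (by
              obtain ⟨s, hs⟩ := hpa
              exact ⟨r' * s, by rw [← hs]; rfl⟩) with h | h
            · exact h
            · exact absurd ((r' : Equiv.Perm (Blk n)).injective (h.trans hr''.symm)) hne
        · rw [hou, if_neg hne]
          rw [hou] at hr''
          rcases hb with hb | hb <;> rw [hb] at hr'' ⊢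
          · rw [Equiv.swap_apply_left]
            rcases hin ((r' : Equiv.Perm (Blk n)) a) (by
              obtain ⟨s, hs⟩ := hrep a
              exact ⟨r' * s, by rw [← hs]; rfl⟩) with h | h
            · exact absurd ((r' : Equiv.Perm (Blk n)).injective (h.trans hr''.symm)) (Ne.symm hne)
            · exact h
          · rw [Equiv.swap_apply_right]
            have hrp : p ((r' : Equiv.Perm (Blk n)) a) = p a := by
              rw [← Equiv.Perm.mul_apply, hPc _ hp _ r'.2, Equiv.Perm.mul_apply, hr'']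
            exact p.injective hrp
      · rw [if_neg h'] at hqo
        rw [hqb, hqo, hr'']
        refine (Equiv.swap_apply_of_ne_of_ne ?_ ?_).symm
        · rintro rfl; exact h' rfl
        · rintro rfl
          refine h' (Quotient.sound (MulAction.orbitRel_apply.2 ⟨⟨p, hp⟩, rfl⟩))
    exact ⟨hmem, transposition_eq_pswap hPT hps (Ne.symm hne) (Subgroup.map_mono hAT hmem)⟩
  refine ⟨Finset.univ.filter fun k => pswap k ∈ P, Subgroup.eq_of_le_of_card_ge (fun x hx => ?_) ?_⟩
  · refine ⟨fun a => ?_, fun a ha => ?_⟩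
    · by_cases h : x.p a = a
      · exact Or.inl h
      · obtain ⟨h1, h2⟩ := hswap x.p ⟨x, hx, rfl⟩ a h
        refine Or.inr ⟨Finset.mem_filter.2 ⟨Finset.mem_univ _, ?_⟩, h2⟩
        rw [← swap_mate, ← h2]; exact h1
    · obtain ⟨y, hy, hyp⟩ := (Finset.mem_filter.1 ha).2
      have hyp' : y.p = pswap a.1 := hyp
      have hpinv : (pswap a.1)⁻¹ = pswap a.1 := Equiv.swap_inv _ _
      have hyv : y.v (mate a) = y.v a := by
        have h := congrFun ((W.mul_self_eq_one y).1 (hA y hy)).2 a
        rw [hyp', act_apply, hpinv, pswap_apply, if_pos rfl] at h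
        exact h
      have h := congrFun ((W.comm_iff x y).1 (hcomm x hx y hy)).1 a
      simp only [Pi.add_apply, act_apply] at h
      rw [hyp', hpinv, pswap_apply, if_pos rfl] at h
      have hxy : y.v (x.p⁻¹ a) = y.v a := by
        by_cases h' : x.p⁻¹ a = a
        · rw [h']
        · have h2 := (hswap x.p ⟨x, hx, rfl⟩ (x.p⁻¹ a) (by
            rw [Equiv.Perm.inv_def, Equiv.apply_symm_apply]
            exact fun hh => h' (by rw [Equiv.Perm.inv_def, ← hh]))).2
          rw [Equiv.Perm.inv_def, Equiv.apply_symm_apply] at h2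
          have h3 : x.p⁻¹ a = mate a := by rw [Equiv.Perm.inv_def, h2, mate_mate]; rw [← h2]
          rw [h3, hyv]
      rw [hxy, add_comm (x.v a)] at h
      exact (add_left_cancel h).symm
  · rw [card_EK]; exact hcard

end Cfsg.Agent.Lib.Inv59.Kondo
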